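import Cfsg.Agent.REC.A10S.Cand

/-! Arithmetic of `7`-smooth numbers. -/

set_option autoImplicit false

namespace CL.A10S

/-- only the primes `2, 3, 5, 7` divide `n` -/
def Smo (n : ℕ) : Prop := ∀ p : ℕ, p.Prime → p ∣ n → p = 2 ∨ p = 3 ∨ p = 5 ∨ p = 7

theorem Smo.of_dvd {m n : ℕ} (h : Smo n) (d : m ∣ n) : Smo m := fun p hp e => h p hp (e.trans d)

/-- `Nat.factorization_prod_pow_eq_self`, or induction (`Nat.recOnMul` / `induction_on_primes`) -/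
theorem Smo.exists_eq {n : ℕ} (h : Smo n) (h0 : n ≠ 0) : ∃ a b c d : ℕ, n = 2 ^ a * 3 ^ b * 5 ^ c * 7 ^ d := by
  induction n using induction_on_primes with
  | zero => exact absurd rfl h0
  | one => exact ⟨0, 0, 0, 0, rfl⟩
  | prime_mul p m hp ih =>
    obtain ⟨a, b, c, d, e⟩ := ih (h.of_dvd (Dvd.intro_left _ rfl)) (fun e => h0 (by rw [e, mul_zero]))
    rcases h p hp (Dvd.intro _ rfl) with rfl | rfl | rfl | rfl
    · exact ⟨a + 1, b, c, d, by rw [e]; ring⟩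
    · exact ⟨a, b + 1, c, d, by rw [e]; ring⟩
    · exact ⟨a, b, c + 1, d, by rw [e]; ring⟩
    · exact ⟨a, b, c, d + 1, by rw [e]; ring⟩

/-- if `n < 2 ^ 200`, all four exponents are less than 200 -/
theorem Smo.dvd210 {n : ℕ} (h : Smo n) (h0 : n ≠ 0) : n ∣ 210 ^ 200 ∨ 2 ^ 200 ≤ n := by
  obtain ⟨a, b, c, d, e⟩ := h.exists_eq h0
  by_cases hl : 2 ^ 200 ≤ n
  · exact .inr hl
  left
  have key : ∀ p k : ℕ, 2 ≤ p → p ^ k ∣ n → p ^ k ∣ p ^ 200 := fun p k hp hd => by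
    refine pow_dvd_pow p ?_
    by_contra hk
    apply hl
    calc 2 ^ 200 ≤ 2 ^ k := Nat.pow_le_pow_right (by norm_num) (by omega)
      _ ≤ p ^ k := Nat.pow_le_pow_left hp k
      _ ≤ n := Nat.le_of_dvd (Nat.pos_of_ne_zero h0) hd
  have e210 : (210 : ℕ) ^ 200 = 2 ^ 200 * 3 ^ 200 * 5 ^ 200 * 7 ^ 200 := by
    rw [← mul_pow, ← mul_pow, ← mul_pow]; rfl
  rw [e210]
  have h2 := key 2 a le_rfl ⟨3 ^ b * 5 ^ c * 7 ^ d, by rw [e]; ring⟩
  have h3 := key 3 b (by norm_num) ⟨2 ^ a * 5 ^ c * 7 ^ d, by rw [e]; ring⟩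
  have h5 := key 5 c (by norm_num) ⟨2 ^ a * 3 ^ b * 7 ^ d, by rw [e]; ring⟩
  have h7 := key 7 d (by norm_num) ⟨2 ^ a * 3 ^ b * 5 ^ c, by rw [e]; ring⟩
  rw [e]
  exact mul_dvd_mul (mul_dvd_mul (mul_dvd_mul h2 h3) h5) h7

theorem Smo.pow_cases {q : ℕ} (h : Smo q) (hq : IsPrimePow q) : ∃ k, 1 ≤ k ∧ (q = 2 ^ k ∨ q = 3 ^ k ∨ q = 5 ^ k ∨ q = 7 ^ k) := by
  obtain ⟨p, k, hp, hk, rfl⟩ := (isPrimePow_nat_iff _).1 hq
  refine ⟨k, hk, ?_⟩
  rcases h p hp (dvd_pow_self p hk.ne') with rfl | rfl | rfl | rfl <;> simp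

/-- periodicity of the powers -/
theorem pow_mod_per {a M t : ℕ} (h : a ^ t % M = 1 % M) (n : ℕ) : a ^ n % M = a ^ (n % t) % M := by
  have h1 : a ^ t ≡ 1 [MOD M] := h
  have h2 : (a ^ t) ^ (n / t) * a ^ (n % t) ≡ 1 ^ (n / t) * a ^ (n % t) [MOD M] := (h1.pow _).mul_right _
  rw [← pow_mul, ← pow_add, Nat.div_add_mod, one_pow, one_mul] at h2
  exact h2

namespace ArX

/-- a polynomial condition on `a ^ n` modulo `M` depends on `n % t` -/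
theorem per {a M t : ℕ} (h : a ^ t % M = 1 % M) (n : ℕ) : a ^ n ≡ a ^ (n % t) [MOD M] := pow_mod_per h n

/-- a smooth number with small exponents -/
theorem dvd_of {n a b c d : ℕ} (h : Smo n) (h0 : n ≠ 0) (h2 : ¬ 2 ^ (a + 1) ∣ n) (h3 : ¬ 3 ^ (b + 1) ∣ n) (h5 : ¬ 5 ^ (c + 1) ∣ n) (h7 : ¬ 7 ^ (d + 1) ∣ n) :
    n ∣ 2 ^ a * 3 ^ b * 5 ^ c * 7 ^ d := by
  obtain ⟨a', b', c', d', e⟩ := h.exists_eq h0
  have key : ∀ p k l : ℕ, p ^ k ∣ n → ¬ p ^ (l + 1) ∣ n → p ^ k ∣ p ^ l := fun p k l hd hn => by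
    refine pow_dvd_pow p ?_
    by_contra hk
    exact hn ((pow_dvd_pow p (by omega)).trans hd)
  have k2 := key 2 a' a ⟨3 ^ b' * 5 ^ c' * 7 ^ d', by rw [e]; ring⟩ h2
  have k3 := key 3 b' b ⟨2 ^ a' * 5 ^ c' * 7 ^ d', by rw [e]; ring⟩ h3
  have k5 := key 5 c' c ⟨2 ^ a' * 3 ^ b' * 7 ^ d', by rw [e]; ring⟩ h5
  have k7 := key 7 d' d ⟨2 ^ a' * 3 ^ b' * 5 ^ c', by rw [e]; ring⟩ h7
  rw [e]
  exact mul_dvd_mul (mul_dvd_mul (mul_dvd_mul k2 k3) k5) k7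

theorem nd {n p : ℕ} (h : Smo n) (hp : p.Prime) (h7 : 7 < p) : ¬ p ∣ n := fun d => by
  have := h p hp d
  omega

/-- transfer of a divisibility along a congruence -/
theorem tr {x y M d : ℕ} (h : x ≡ y [MOD M]) (hd : d ∣ M) : d ∣ x ↔ d ∣ y := (h.of_dvd hd).dvd_iff dvd_rfl

theorem md (q M : ℕ) : q ≡ q % M [MOD M] := (Nat.mod_modEq q M).symm

end ArX

open ArX

/-- `q² + 1 = 2 · 5ᵏ` (it is `2` modulo `4`, prime to `3` and `7`), `5 ∤ q`.  `q = 3ⁿ`: if `25 ∣ 9ⁿ + 1`, then `n ≡ 5 mod 10` and the prime `1181` divides `9ⁿ + 1`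
(`pow_mod_per` with `M = 25 · 1181`, `t = 10`, `decide` on the residues); so `q² + 1 ∣ 10`.  `q = 7ⁿ`: if `125 ∣ 49ⁿ + 1`, then `n ≡ 5 mod 10` and `281 ∣ 49ⁿ + 1`
(`M = 125 · 281`); so `q² + 1 ∣ 50`. -/
theorem sq_add_one {q : ℕ} (hq : IsPrimePow q) (ho : Odd q) (s : Smo q) (h : Smo (q ^ 2 + 1)) : q = 3 ∨ q = 7 := by
  have hm : ∀ M, q ^ 2 + 1 ≡ (q % M) ^ 2 + 1 [MOD M] := fun M => ((md q M).pow 2).add_right 1
  have n4 : ¬ 2 ^ (1 + 1) ∣ q ^ 2 + 1 := by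
    rw [tr (hm 4) (by norm_num)]
    have : ∀ r < 4, ¬ 2 ^ (1 + 1) ∣ r ^ 2 + 1 := by decide
    exact this _ (Nat.mod_lt _ (by norm_num))
  have n3 : ¬ 3 ^ (0 + 1) ∣ q ^ 2 + 1 := by
    rw [tr (hm 3) (by norm_num)]
    have : ∀ r < 3, ¬ 3 ^ (0 + 1) ∣ r ^ 2 + 1 := by decide
    exact this _ (Nat.mod_lt _ (by norm_num))
  have n7 : ¬ 7 ^ (0 + 1) ∣ q ^ 2 + 1 := by
    rw [tr (hm 7) (by norm_num)]
    have : ∀ r < 7, ¬ 7 ^ (0 + 1) ∣ r ^ 2 + 1 := by decide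
    exact this _ (Nat.mod_lt _ (by norm_num))
  obtain ⟨k, hk, e | e | e | e⟩ := s.pow_cases hq
  · exact absurd ho (by rw [e, Nat.not_odd_iff_even]; exact (Nat.even_pow.2 ⟨by norm_num, by omega⟩))
  · have n5 : ¬ 5 ^ (1 + 1) ∣ q ^ 2 + 1 := fun d5 => by
      have c : q ^ 2 + 1 ≡ (3 ^ (k % 20)) ^ 2 + 1 [MOD 25 * 1181] := by
        rw [e]; exact ((per (by decide +kernel) k).pow 2).add_right 1
      have : ∀ r < 20, 5 ^ (1 + 1) ∣ (3 ^ r) ^ 2 + 1 → 1181 ∣ (3 ^ r) ^ 2 + 1 := by decide +kernel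
      exact nd h (by norm_num) (by norm_num) ((tr c (by norm_num)).2 (this _ (Nat.mod_lt _ (by norm_num)) ((tr c (by norm_num)).1 d5)))
    have d := dvd_of h (by positivity) n4 n3 n5 n7
    have l : q ^ 2 + 1 ≤ 10 := Nat.le_of_dvd (by norm_num) d
    have l' : q ≤ 3 := by nlinarith
    have : 3 ∣ q := e ▸ dvd_pow_self 3 (by omega)
    have := hq.pos
    omega
  · have n5 : ¬ 5 ^ (0 + 1) ∣ q ^ 2 + 1 := fun d5 => by
      have : 5 ∣ q ^ 2 := (e ▸ dvd_pow_self 5 (by omega) : 5 ∣ q).trans (dvd_pow_self q (by norm_num))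
      omega
    have d := dvd_of h (by positivity) n4 n3 n5 n7
    have l : q ^ 2 + 1 ≤ 2 := Nat.le_of_dvd (by norm_num) d
    have := hq.two_le
    nlinarith
  · have n5 : ¬ 5 ^ (2 + 1) ∣ q ^ 2 + 1 := fun d5 => by
      have c : q ^ 2 + 1 ≡ (7 ^ (k % 20)) ^ 2 + 1 [MOD 125 * 281] := by
        rw [e]; exact ((per (by decide +kernel) k).pow 2).add_right 1
      have : ∀ r < 20, 5 ^ (2 + 1) ∣ (7 ^ r) ^ 2 + 1 → 281 ∣ (7 ^ r) ^ 2 + 1 := by decide +kernel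
      exact nd h (by norm_num) (by norm_num) ((tr c (by norm_num)).2 (this _ (Nat.mod_lt _ (by norm_num)) ((tr c (by norm_num)).1 d5)))
    have d := dvd_of h (by positivity) n4 n3 n5 n7
    have l : q ^ 2 + 1 ≤ 50 := Nat.le_of_dvd (by norm_num) d
    have l' : q ≤ 7 := by nlinarith
    have : 7 ∣ q := e ▸ dvd_pow_self 7 (by omega)
    have := hq.pos
    omega

namespace ArX

/-- `q² + e q + 1` for `e = ± 1` modulo `M`, written with `e = 1` or `e = M - 1` -/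
theorem core {q m : ℕ} (hq : IsPrimePow q) (ho : Odd q) (s : Smo q) (h : Smo m) (h0 : m ≠ 0) (f : ℕ → ℕ → ℕ)
    (hf : ∀ M r, 0 < M → q ≡ r [MOD M] → m ≡ f M r [MOD M])
    (f2 : ∀ r < 2, ¬ 2 ^ (0 + 1) ∣ f 2 r) (f9 : ∀ r < 9, ¬ 3 ^ (1 + 1) ∣ f 9 r) (f5 : ∀ r < 5, ¬ 5 ^ (0 + 1) ∣ f 5 r)
    (f7 : ¬ 7 ∣ f 7 0) (g3 : ∀ r < 42, 7 ^ (1 + 1) ∣ f 2107 (3 ^ r) → 43 ∣ f 2107 (3 ^ r))
    (g5 : ∀ r < 42, 7 ^ (1 + 1) ∣ f 2107 (5 ^ r) → 43 ∣ f 2107 (5 ^ r)) : m ∣ 21 := by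
  have n2 : ¬ 2 ^ (0 + 1) ∣ m := by
    rw [tr (hf 2 _ (by norm_num) (md q 2)) (by norm_num)]
    exact f2 _ (Nat.mod_lt _ (by norm_num))
  have n9 : ¬ 3 ^ (1 + 1) ∣ m := by
    rw [tr (hf 9 _ (by norm_num) (md q 9)) (by norm_num)]
    exact f9 _ (Nat.mod_lt _ (by norm_num))
  have n5 : ¬ 5 ^ (0 + 1) ∣ m := by
    rw [tr (hf 5 _ (by norm_num) (md q 5)) (by norm_num)]
    exact f5 _ (Nat.mod_lt _ (by norm_num))
  have n49 : ¬ 7 ^ (1 + 1) ∣ m := fun d => by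
    obtain ⟨k, hk, e | e | e | e⟩ := s.pow_cases hq
    · exact absurd ho (by rw [e, Nat.not_odd_iff_even]; exact (Nat.even_pow.2 ⟨by norm_num, by omega⟩))
    · have c := hf 2107 (3 ^ (k % 42)) (by norm_num) (e ▸ per (by decide +kernel) k)
      exact nd h (by norm_num) (by norm_num) ((tr c (by norm_num)).2 (g3 _ (Nat.mod_lt _ (by norm_num)) ((tr c (by norm_num)).1 d)))
    · have c := hf 2107 (5 ^ (k % 42)) (by norm_num) (e ▸ per (by decide +kernel) k)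
      exact nd h (by norm_num) (by norm_num) ((tr c (by norm_num)).2 (g5 _ (Nat.mod_lt _ (by norm_num)) ((tr c (by norm_num)).1 d)))
    · have c := hf 7 0 (by norm_num) ((Nat.modEq_zero_iff_dvd).2 (e ▸ dvd_pow_self 7 (by omega)))
      exact f7 ((tr c dvd_rfl).1 ((by norm_num : 7 ∣ 7 ^ (1 + 1)).trans d))
  exact (dvd_of h h0 n2 n9 n5 n49).trans (by norm_num)

end ArX

/-- `q² + q + 1` is prime to `2` and `5`, not divisible by `9`.  If `49` divides it: `7 ∤ q`, so `q = 3ⁿ` or `5ⁿ`; `3` and `5` have order 42 modulo `49` and modulo `43`, and `43` divides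
`q² + q + 1` (`M = 49 · 43`, `t = 42`).  So it divides `21`, `q ≤ 4`, `q = 3` gives 13. -/
theorem phi3 {q : ℕ} (hq : IsPrimePow q) (ho : Odd q) (s : Smo q) (h : Smo (q ^ 2 + q + 1)) : False := by
  have d := core hq ho s h (by positivity) (fun _ r => r ^ 2 + r + 1) (fun M r _ c => ((c.pow 2).add c).add_right 1)
    (by decide) (by decide) (by decide) (by decide) (by decide +kernel) (by decide +kernel)
  have l : q ^ 2 + q + 1 ≤ 21 := Nat.le_of_dvd (by norm_num) d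
  have l' : q ≤ 4 := by nlinarith
  have := hq.two_le
  interval_cases q
  · exact absurd ho (by decide)
  · exact absurd d (by decide)
  · exact absurd ho (by decide)

/-- the same for `m = q² - q + 1`: it divides `21` -/
theorem phi6 {q m : ℕ} (hq : IsPrimePow q) (ho : Odd q) (s : Smo q) (hm : m + q = q ^ 2 + 1) (h : Smo m) : q = 3 ∨ q = 5 := by
  have h2 := hq.two_le
  have d := core hq ho s h (by rintro rfl; nlinarith) (fun M r => r ^ 2 + (M - 1) * r + 1) (fun M r hM c => by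
      have e1 : m + q ≡ r ^ 2 + 1 [MOD M] := hm ▸ (c.pow 2).add_right 1
      have e2 : r ^ 2 + (M - 1) * r + 1 + q ≡ r ^ 2 + (M - 1) * r + 1 + r [MOD M] := c.add_left _
      have e3 : r ^ 2 + (M - 1) * r + 1 + r = r ^ 2 + 1 + M * r := by
        obtain ⟨M, rfl⟩ : ∃ M', M = M' + 1 := ⟨M - 1, by omega⟩
        rw [Nat.add_sub_cancel]; ring
      have e4 : r ^ 2 + 1 + M * r ≡ r ^ 2 + 1 [MOD M] := by
        unfold Nat.ModEq; rw [Nat.add_mul_mod_self_left]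
      exact Nat.ModEq.add_right_cancel' q (e1.trans ((e2.trans (e3 ▸ e4)).symm)))
    (by decide) (by decide) (by decide) (by decide) (by decide +kernel) (by decide +kernel)
  have l : m ≤ 21 := Nat.le_of_dvd (by norm_num) d
  have l' : q ≤ 5 := by nlinarith
  interval_cases q
  · exact absurd ho (by decide)
  · exact .inl rfl
  · exact absurd ho (by decide)
  · exact .inr rfl

end CL.A10S
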