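import Cfsg.Agent.REC.A10S.Defs
import Cfsg.Agent.SPOR.F24.U43
import Cfsg.Statements.S0500
import Cfsg.Statements.S2066

/-! The candidates for the simple section. -/

set_option autoImplicit false

namespace CL.A10S

open Cfsg

/-- the candidates -/
def Cand (S : Type*) [Group S] : Prop :=
  (∃ (F : Type) (_ : Field F) (_ : Fintype F), Fintype.card F = 4 ∧ Nonempty (S ≃* Matrix.ProjectiveSpecialLinearGroup (Fin 3) F)) ∨
    Nonempty (S ≃* alternatingGroup (Fin 8)) ∨ Nonempty (S ≃* alternatingGroup (Fin 9)) ∨ Nonempty (S ≃* alternatingGroup (Fin 10)) ∨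
    Spor.IsoJ2 S ∨ Nonempty (S ≃* PSU 4 F24.F9 3)

/-- only the primes `2, 3, 5, 7` divide `n`, `7` does and `256` does not -/
structure Sm (n : ℕ) : Prop where
  pr : ∀ p : ℕ, p.Prime → p ∣ n → p = 2 ∨ p = 3 ∨ p = 5 ∨ p = 7
  d7 : 7 ∣ n
  n256 : ¬ 256 ∣ n

/-- the conclusion of the list -/
def Lst (S : Type*) [Group S] : Prop := ¬ 49 ∣ Nat.card S ∧ (64 ∣ Nat.card S → Cand S)

theorem Cand.equiv {S T : Type*} [Group S] [Group T] (h : Cand T) (e : S ≃* T) : Cand S := by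
  rcases h with ⟨F, _, _, h, ⟨f⟩⟩ | ⟨⟨f⟩⟩ | ⟨⟨f⟩⟩ | ⟨⟨f⟩⟩ | ⟨⟨f⟩⟩ | ⟨⟨f⟩⟩
  exacts [.inl ⟨F, _, _, h, ⟨e.trans f⟩⟩, .inr (.inl ⟨e.trans f⟩), .inr (.inr (.inl ⟨e.trans f⟩)), .inr (.inr (.inr (.inl ⟨e.trans f⟩))),
    .inr (.inr (.inr (.inr (.inl ⟨e.trans f⟩)))), .inr (.inr (.inr (.inr (.inr ⟨e.trans f⟩))))]

theorem Lst.equiv {S T : Type*} [Group S] [Group T] (h : Lst T) (e : S ≃* T) : Lst S := by
  unfold Lst
  rw [Nat.card_congr e.toEquiv]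
  exact ⟨h.1, fun d => (h.2 d).equiv e⟩

theorem Sm.not {n p : ℕ} (h : Sm n) (hp : p.Prime) (h7 : 7 < p) : ¬ p ∣ n := fun d => by
  have := h.pr p hp d
  omega

theorem Sp.sm {S : Type*} [Group S] [Finite S] (h : Sp S) (h7 : 7 ∣ Nat.card S) (h2 : ¬ 256 ∣ Nat.card S) : Sm (Nat.card S) :=
  ⟨fun _ hp d => h.prime hp d, h7, h2⟩

end CL.A10S
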