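import Mathlib
import Cfsg.Statements.S3490

/-! Groups whose element orders are element orders of `A₁₀`. -/

set_option autoImplicit false

namespace CL.A10S

open Subgroup

/-- the element orders of `A₁₀` -/
def W : Finset ℕ := {1, 2, 3, 4, 5, 6, 7, 8, 9, 10, 12, 15, 21}

/-- all element orders lie in `W` -/
def Sp (G : Type*) [Group G] : Prop := ∀ g : G, orderOf g ∈ W

theorem W_dvd {a b : ℕ} (hb : b ∈ W) (h : a ∣ b) : a ∈ W := by
  have hb' : b ≤ 21 ∧ 0 < b := by revert hb; unfold W; simp only [Finset.mem_insert, Finset.mem_singleton]; omega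
  have ha : a ≤ 21 := (Nat.le_of_dvd hb'.2 h).trans hb'.1
  have : ∀ b ∈ W, ∀ a ≤ 21, a ∣ b → a ∈ W := by decide
  exact this b hb a ha h

variable {G H : Type*} [Group G] [Group H]

theorem Sp.ne (h : Sp G) (g : G) {n : ℕ} (hn : n ∉ W) : orderOf g ≠ n := fun e => hn (e ▸ h g)

theorem Sp.not_dvd (h : Sp G) (g : G) {n : ℕ} (hn : n ∉ W) : ¬ n ∣ orderOf g := fun e => hn (W_dvd (h g) e)

theorem Sp.of_inj (h : Sp G) (f : H →* G) (hf : Function.Injective f) : Sp H := fun g => orderOf_injective f hf g ▸ h (f g)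

theorem Sp.of_surj (h : Sp G) (f : G →* H) (hf : Function.Surjective f) : Sp H := fun g => by
  obtain ⟨x, rfl⟩ := hf g
  exact W_dvd (h x) (orderOf_map_dvd f x)

theorem Sp.sub (h : Sp G) (K : Subgroup G) : Sp K := h.of_inj K.subtype K.subtype_injective

theorem Sp.quot (h : Sp G) (K : Subgroup G) [K.Normal] : Sp (G ⧸ K) := h.of_surj (QuotientGroup.mk' K) (QuotientGroup.mk'_surjective K)

theorem Sp.equiv (h : Sp G) (e : G ≃* H) : Sp H := h.of_surj e.toMonoidHom e.surjective

/-- commuting elements of coprime orders -/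
theorem Sp.mul (h : Sp G) {a b : G} (c : a * b = b * a) {m n : ℕ} (ha : orderOf a = m) (hb : orderOf b = n) (co : m.Coprime n) :
    m * n ∈ W := by
  have := h (a * b)
  rwa [(show Commute a b from c).orderOf_mul_eq_mul_orderOf_of_coprime (by rw [ha, hb]; exact co), ha, hb] at this

theorem Sp.prime [Finite G] (h : Sp G) {p : ℕ} (hp : p.Prime) (d : p ∣ Nat.card G) : p = 2 ∨ p = 3 ∨ p = 5 ∨ p = 7 := by
  have : Fact p.Prime := ⟨hp⟩
  obtain ⟨g, hg⟩ := exists_prime_orderOf_dvd_card' p d
  have := hg ▸ h g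
  simp only [W, Finset.mem_insert, Finset.mem_singleton] at this
  rcases this with rfl | rfl | rfl | rfl | rfl | rfl | rfl | rfl | rfl | rfl | rfl | rfl | rfl <;> first | omega | norm_num at hp

end CL.A10S
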