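import Cfsg.Agent.S2119

/-! Facts on `A₈`, `A₉`, `A₁₀`. -/

set_option autoImplicit false

namespace CL.A10S

/-- `S2119`: `|Aut Aₙ| = n! = 2 |Aₙ|` (`two_mul_nat_card_alternatingGroup`) -/
theorem alt_aut {n : ℕ} (h4 : 4 ≤ n) (h6 : n ≠ 6) :
    Nat.card (MulAut (alternatingGroup (Fin n))) = 2 * Nat.card (alternatingGroup (Fin n)) := by
  have : Nontrivial (Fin n) := Fin.nontrivial_iff_two_le.2 (by omega)
  rw [two_mul_nat_card_alternatingGroup, ← Nat.card_eq_of_bijective _ (Cfsg.Agent.S2119.result n h4 h6)]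

theorem a8_card : Nat.card (alternatingGroup (Fin 8)) = 20160 := by
  have := two_mul_nat_card_alternatingGroup (α := Fin 8)
  rw [Nat.card_perm, Nat.card_fin, show Nat.factorial 8 = 2 * 20160 by decide] at this
  omega

theorem a9_card : Nat.card (alternatingGroup (Fin 9)) = 181440 := by
  have := two_mul_nat_card_alternatingGroup (α := Fin 9)
  rw [Nat.card_perm, Nat.card_fin, show Nat.factorial 9 = 2 * 181440 by decide] at this
  omega

theorem a10_card : Nat.card (alternatingGroup (Fin 10)) = 1814400 := by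
  have := two_mul_nat_card_alternatingGroup (α := Fin 10)
  rw [Nat.card_perm, Nat.card_fin, show Nat.factorial 10 = 2 * 1814400 by decide] at this
  omega

theorem FA.ms (m : Multiset ℕ) (h : ∀ a ∈ m, a = 3) (hs : m.sum ≤ 8) : m.sum ≤ 6 := by
  rw [Multiset.eq_replicate.2 ⟨rfl, h⟩, Multiset.sum_replicate, smul_eq_mul] at hs ⊢
  omega

/-- The cycle lengths divide 9 and are at most 8, so the cycle type is `{}`, `{3}` or `{3, 3}` and `d³ = 1`.  `d` and `d⁻¹` have the same cycle type, so they are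
conjugate in `S₈`; `d` fixes two points `a ≠ b` (the support has at most six points), so a conjugating permutation may be multiplied by `swap a b`. -/
theorem a8_real (d : alternatingGroup (Fin 8)) (h : d ^ 9 = 1) : d ^ 3 = 1 ∧ ∃ s, s * d * s⁻¹ = d⁻¹ := by
  have h9 : (d : Equiv.Perm (Fin 8)) ^ 9 = 1 := congrArg Subtype.val h
  have hs : (d : Equiv.Perm (Fin 8)).cycleType.sum ≤ 8 := by
    rw [Equiv.Perm.sum_cycleType]; simpa using Finset.card_le_univ (d : Equiv.Perm (Fin 8)).support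
  have h3 : ∀ a ∈ (d : Equiv.Perm (Fin 8)).cycleType, a = 3 := fun a ha => by
    have h1 := Equiv.Perm.two_le_of_mem_cycleType ha
    have h2 := (Multiset.le_sum_of_mem ha).trans hs
    have h4 := (Equiv.Perm.dvd_of_mem_cycleType ha).trans (orderOf_dvd_of_pow_eq_one h9)
    interval_cases a <;> omega
  refine ⟨Subtype.ext (orderOf_dvd_iff_pow_eq_one.1 ?_), ?_⟩
  · rw [← Equiv.Perm.lcm_cycleType, Multiset.lcm_dvd]
    exact fun a ha => by rw [h3 a ha]
  have h6 : (d : Equiv.Perm (Fin 8)).support.card ≤ 6 := Equiv.Perm.sum_cycleType (d : Equiv.Perm (Fin 8)) ▸ FA.ms _ h3 hs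
  have hc : IsConj (d : Equiv.Perm (Fin 8)) ((d⁻¹ : alternatingGroup (Fin 8)) : Equiv.Perm (Fin 8)) :=
    Equiv.Perm.isConj_iff_cycleType_eq.2 (Equiv.Perm.cycleType_inv _).symm
  exact isConj_iff.1 (alternatingGroup.isConj_of hc (by rw [Fintype.card_fin]; omega))

/-- `x = (0 1 2 3 4 5 6)`, `s = (1 6)(2 5)(3 4)(7 8)` -/
theorem a9_real : ∃ x s : alternatingGroup (Fin 9), orderOf x = 7 ∧ s * x * s⁻¹ = x⁻¹ := by
  have : Fact (Nat.Prime 7) := ⟨by norm_num⟩
  refine ⟨⟨⟨![1, 2, 3, 4, 5, 6, 0, 7, 8], ![6, 0, 1, 2, 3, 4, 5, 7, 8], by decide, by decide⟩, ?_⟩,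
    ⟨⟨![0, 6, 5, 4, 3, 2, 1, 8, 7], ![0, 6, 5, 4, 3, 2, 1, 8, 7], by decide, by decide⟩, ?_⟩, orderOf_eq_prime ?_ ?_, ?_⟩
  · rw [Equiv.Perm.mem_alternatingGroup]; decide +kernel
  · rw [Equiv.Perm.mem_alternatingGroup]; decide +kernel
  · exact Subtype.ext (by decide +kernel)
  · exact fun h => absurd (congrArg Subtype.val h) (by decide +kernel)
  · exact Subtype.ext (by decide +kernel)

/-- `x = (0 1 2 3 4 5 6)`, `g = (1 3 2 6 4 5)(7 8)` (`i ↦ 3 i` modulo 7) -/
theorem a10_cube : ∃ x g : alternatingGroup (Fin 10), orderOf x = 7 ∧ g * x * g⁻¹ = x ^ 3 := by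
  have : Fact (Nat.Prime 7) := ⟨by norm_num⟩
  refine ⟨⟨⟨![1, 2, 3, 4, 5, 6, 0, 7, 8, 9], ![6, 0, 1, 2, 3, 4, 5, 7, 8, 9], by decide, by decide⟩, ?_⟩,
    ⟨⟨![0, 3, 6, 2, 5, 1, 4, 8, 7, 9], ![0, 5, 3, 1, 6, 4, 2, 8, 7, 9], by decide, by decide⟩, ?_⟩, orderOf_eq_prime ?_ ?_, ?_⟩
  · rw [Equiv.Perm.mem_alternatingGroup]; decide +kernel
  · rw [Equiv.Perm.mem_alternatingGroup]; decide +kernel
  · exact Subtype.ext (by decide +kernel)
  · exact fun h => absurd (congrArg Subtype.val h) (by decide +kernel)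
  · exact Subtype.ext (by decide +kernel)

end CL.A10S
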