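import Cfsg.Agent.S0243
import Cfsg.Agent.S0813
import Cfsg.Agent.S2739

/-! Facts on `L₃(4)`. -/

set_option autoImplicit false
set_option maxHeartbeats 400000
set_option linter.unusedSectionVars false

namespace CL.A10S

variable {F : Type} [Field F] [Fintype F]

namespace FL
open Matrix Polynomial CL.GLn

theorem cube (hF : Fintype.card F = 4) {a : F} (ha : a ≠ 0) : a ^ 3 = 1 := by
  have := FiniteField.pow_card_sub_one_eq_one a ha
  rwa [hF] at this

theorem two (hF : Fintype.card F = 4) : (2 : F) = 0 := by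
  have := FiniteField.cast_card_eq_zero F
  rw [hF] at this
  have h : (2 : F) ^ 2 = 0 := by rw [← this]; norm_num
  exact pow_eq_zero_iff two_ne_zero |>.1 h

theorem dg (hF : Fintype.card F = 4) {M : Matrix (Fin 3) (Fin 3) F} (h : M ^ 3 = 1) :
    ∃ (P Q : Matrix (Fin 3) (Fin 3) F) (e : Fin 3 → F), P * Q = 1 ∧ Q * P = 1 ∧ M = P * diagonal e * Q := by
  classical
  have hA : aeval (toLin' M) (∏ a ∈ (Finset.univ : Finset F), (X - C a)) = 0 := by
    have : ∏ a ∈ (Finset.univ : Finset F), (X - C a) = X ^ Fintype.card F - X := by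
      have hm : (X ^ Fintype.card F - X : F[X]).Monic := by
        rw [hF]; monicity!
      have := prod_multiset_X_sub_C_of_monic_of_roots_card_eq hm (by
        rw [FiniteField.roots_X_pow_card_sub_X, FiniteField.X_pow_card_sub_X_natDegree_eq _ Fintype.one_lt_card]; rfl)
      rw [← this, FiniteField.roots_X_pow_card_sub_X]; rfl
    rw [this, ← toLin'_aeval, hF]
    simp only [map_sub, map_pow, aeval_X]
    rw [pow_succ, h]; simp
  obtain ⟨b, χ, hb⟩ := exists_basis_eigenvectors (fun _ : Unit => toLin' M) (fun _ _ => Commute.refl _)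
    fun _ => iSup_eigenspace_eq_top_of_aeval _ hA
  let b' := b.reindex (finCongr (Module.finrank_fin_fun F))
  obtain ⟨e, he⟩ : ∃ e : Fin 3 → F, ∀ k, toLin' M (b' k) = e k • b' k :=
    ⟨fun k => χ ((finCongr (Module.finrank_fin_fun F)).symm k) (), fun k => by
      simp only [b', Module.Basis.reindex_apply]; exact hb _ ()⟩
  have h1 := (Pi.basisFun F (Fin 3)).toMatrix_mul_toMatrix_flip b'
  refine ⟨_, _, e, h1, b'.toMatrix_mul_toMatrix_flip _, ?_⟩
  have : M * (Pi.basisFun F (Fin 3)).toMatrix b' = (Pi.basisFun F (Fin 3)).toMatrix b' * diagonal e := by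
    ext i k
    have := congrFun (he k) i
    rw [toLin'_apply] at this
    rw [mul_diagonal, mul_comm _ (e k)]
    simpa [Matrix.mul_apply, Module.Basis.toMatrix_apply, mulVec, dotProduct] using this
  rw [← this, Matrix.mul_assoc, h1, Matrix.mul_one]

theorem det_dg {P Q : Matrix (Fin 3) (Fin 3) F} (h : P * Q = 1) (D : Matrix (Fin 3) (Fin 3) F) : (P * D * Q).det = D.det := by
  rw [det_mul, det_mul, mul_right_comm, ← det_mul, h, det_one, one_mul]

/-- the cube of a 3-element of `GL₃(4)` is a scalar -/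
theorem cube_sc (hF : Fintype.card F = 4) {A : Matrix (Fin 3) (Fin 3) F} (hA : A.det ≠ 0) {c : F} (h : A ^ 9 = scalar _ c) :
    ∃ a : F, a ^ 3 = 1 ∧ A ^ 3 = scalar _ a := by
  let B : SpecialLinearGroup (Fin 3) F := ⟨A ^ 3, by rw [det_pow, cube hF hA]⟩
  by_contra n
  have n1 : B ∉ Subgroup.center _ := fun k => by
    obtain ⟨a, a3, e⟩ := Matrix.SpecialLinearGroup.mem_center_iff.1 k
    exact n ⟨a, by simpa using a3, e.symm⟩
  have e9 : (B ^ 3).1 = scalar _ c := by
    change (A ^ 3) ^ 3 = _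
    rw [← h, ← pow_mul]
  have b3 := (Cfsg.Agent.S2739.charpoly_eq hF B n1 (Matrix.SpecialLinearGroup.mem_center_iff.2 ⟨c, by
    have := (B ^ 3).2
    rw [e9] at this
    simpa [scalar_apply] using this, e9.symm⟩)).1
  obtain ⟨P, Q, e, pq, qp, hb⟩ := dg hF (M := A ^ 3) (congrArg Subtype.val b3)
  have hd : e 0 * e 1 * e 2 = 1 := by
    have := B.2
    change (A ^ 3).det = 1 at this
    rwa [hb, det_dg pq, det_diagonal, Fin.prod_univ_three] at this
  have h0 : e 0 ≠ 0 ∧ e 1 ≠ 0 ∧ e 2 ≠ 0 := by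
    refine ⟨fun h => ?_, fun h => ?_, fun h => ?_⟩ <;> simp [h] at hd
  have c0 := cube hF h0.1
  have c1 := cube hF h0.2.1
  have hne : ¬ (e 0 = e 1 ∧ e 0 = e 2) := fun ⟨a, a'⟩ => n ⟨e 0, c0, by
    have : diagonal e = scalar (Fin 3) (e 0) := by
      rw [scalar_apply]; congr 1; ext k; fin_cases k <;> simp [a, ← a']
    rw [hb, this, ← (scalar_commute (e 0) (fun _ => Commute.all _ _) P).eq, Matrix.mul_assoc, pq, Matrix.mul_one]⟩
  have n01 : e 0 ≠ e 1 := fun h => hne ⟨h, mul_left_cancel₀ (pow_ne_zero 2 h0.1) (by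
    rw [← h] at hd; linear_combination c0 - hd)⟩
  have n02 : e 0 ≠ e 2 := fun h => hne ⟨mul_left_cancel₀ (pow_ne_zero 2 h0.1) (by
    rw [← h] at hd; linear_combination c0 - hd), h⟩
  have n12 : e 1 ≠ e 2 := fun h => n01 (mul_left_cancel₀ (pow_ne_zero 2 h0.2.1) (by
    rw [← h] at hd; linear_combination hd - c1))
  have cm : Q * A * P * diagonal e = diagonal e * (Q * A * P) := by
    have k : diagonal e = Q * A ^ 3 * P := by
      rw [hb]; simp only [← Matrix.mul_assoc]; rw [qp, Matrix.one_mul, Matrix.mul_assoc, qp, Matrix.mul_one]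
    rw [k]
    simp only [Matrix.mul_assoc]
    rw [← Matrix.mul_assoc P, ← Matrix.mul_assoc P, pq, Matrix.one_mul, Matrix.one_mul, ← Matrix.mul_assoc A,
      ← Matrix.mul_assoc (A ^ 3), ← pow_succ, ← pow_succ']
  have hA' : (Q * A * P).det ≠ 0 := by rwa [det_dg qp]
  have eA : A = P * (Q * A * P) * Q := by
    simp only [← Matrix.mul_assoc]; rw [pq, Matrix.one_mul, Matrix.mul_assoc, pq, Matrix.mul_one]
  generalize Q * A * P = D at cm hA' eA
  have z : ∀ i j, e i ≠ e j → D i j = 0 := fun i j k => by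
    have := congrFun (congrFun cm i) j
    rw [mul_diagonal, diagonal_mul] at this
    exact mul_left_cancel₀ (sub_ne_zero.2 k) (by linear_combination -this)
  have eD : D = diagonal fun i => D i i := by
    ext i j
    fin_cases i <;> fin_cases j <;> simp [z _ _ n01, z _ _ n02, z _ _ n12, z _ _ n01.symm, z _ _ n02.symm, z _ _ n12.symm]
  have D3 : D ^ 3 = 1 := by
    rw [eD, det_diagonal, Finset.prod_ne_zero_iff] at hA'
    rw [eD, diagonal_pow, ← diagonal_one]
    congr 1; ext i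
    exact cube hF (hA' i (Finset.mem_univ _))
  refine n ⟨1, one_pow _, ?_⟩
  rw [map_one, eA, show (P * D * Q) ^ 3 = P * (D * (Q * P) * D * (Q * P) * D) * Q by
    simp only [pow_succ, pow_zero, Matrix.one_mul, Matrix.mul_assoc], qp, Matrix.mul_one, Matrix.mul_one,
    show D * D * D = D ^ 3 by simp only [pow_succ, pow_zero, Matrix.one_mul], D3, Matrix.mul_one, pq]

/-- an element of order two or seven commuting with `A` -/
theorem exS (hF : Fintype.card F = 4) {A : Matrix (Fin 3) (Fin 3) F} (hA : A.det ≠ 0) (h1 : A.det ≠ 1) {a : F} (a3 : a ^ 3 = 1)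
    (h : A ^ 3 = scalar _ a) : ∃ S : SpecialLinearGroup (Fin 3) F, S ∉ Subgroup.center _ ∧ (S ^ 2 = 1 ∨ S ^ 7 = 1) ∧ A * S.1 = S.1 * A := by
  have h2 := two hF
  by_cases e1 : a = 1
  · obtain ⟨P, Q, e, pq, qp, hb⟩ := dg hF (M := A) (by rw [h, e1, map_one])
    rw [hb, det_dg pq, det_diagonal, Fin.prod_univ_three] at hA h1
    have h0 : e 0 ≠ 0 ∧ e 1 ≠ 0 ∧ e 2 ≠ 0 := by
      refine ⟨fun h => ?_, fun h => ?_, fun h => ?_⟩ <;> simp [h] at hA
    have c0 := cube hF h0.1
    have c1 := cube hF h0.2.1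
    have c2 := cube hF h0.2.2
    obtain ⟨i, j, ij, k⟩ : ∃ i j, i ≠ j ∧ e i = e j := by
      by_contra n
      push Not at n
      have n01 := n 0 1 (by decide)
      have n02 := n 0 2 (by decide)
      have n12 := n 1 2 (by decide)
      have q1 : e 0 ^ 2 + e 0 * e 1 + e 1 ^ 2 = 0 := mul_left_cancel₀ (sub_ne_zero.2 n01) (by linear_combination c0 - c1)
      have q2 : e 0 ^ 2 + e 0 * e 2 + e 2 ^ 2 = 0 := mul_left_cancel₀ (sub_ne_zero.2 n02) (by linear_combination c0 - c2)
      have s1 : e 0 + e 1 + e 2 = 0 := mul_left_cancel₀ (sub_ne_zero.2 n12) (by linear_combination q1 - q2)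
      exact h1 (by linear_combination c0 + e 0 * e 1 * s1 - e 0 * q1)
    have cj : ∀ M N : Matrix (Fin 3) (Fin 3) F, P * M * Q * (P * N * Q) = P * (M * N) * Q := fun M N => by
      simp only [Matrix.mul_assoc]; rw [← Matrix.mul_assoc Q, qp, Matrix.one_mul]
    refine ⟨⟨P * transvection i j 1 * Q, by rw [det_dg pq, det_transvection_of_ne _ _ ij]⟩, fun m => ?_, .inl (Subtype.ext ?_), ?_⟩
    · obtain ⟨r, -, e⟩ := Matrix.SpecialLinearGroup.mem_center_iff.1 m
      have : Q * scalar (Fin 3) r * P = transvection i j 1 := by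
        rw [e]; simp only [← Matrix.mul_assoc]; rw [qp, Matrix.one_mul, Matrix.mul_assoc, qp, Matrix.mul_one]
      rw [← (scalar_commute r (fun _ => Commute.all _ _) Q).eq, Matrix.mul_assoc, qp, Matrix.mul_one] at this
      have := congrFun (congrFun this i) j
      simp [transvection, ij] at this
    · change (P * _ * Q) ^ 2 = 1
      rw [sq, cj, transvection_mul_transvection_same _ _ ij, one_add_one_eq_two, h2, transvection_zero, Matrix.mul_one, pq]
    · rw [hb]
      change _ * (P * _ * Q) = P * _ * Q * _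
      rw [cj, cj]
      congr 2
      ext x y
      rw [mul_diagonal, diagonal_mul]
      by_cases p : i = x ∧ j = y
      · obtain ⟨rfl, rfl⟩ := p
        rw [k, mul_comm]
      · by_cases q : x = y
        · rw [q, mul_comm]
        · simp [transvection, p, q]
  · have q : a ^ 2 + a + 1 = 0 := mul_left_cancel₀ (sub_ne_zero.2 e1) (by linear_combination a3)
    have hs : A ^ 3 = a • (1 : Matrix (Fin 3) (Fin 3) F) := by rw [h, scalar_apply, smul_one_eq_diagonal]
    let φ : F[X] →ₐ[F] Matrix (Fin 3) (Fin 3) F := aeval A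
    have k : φ (X ^ 3 - C a) = 0 := by simp [φ, hs, Algebra.algebraMap_eq_smul_one]
    have q' : (C a : F[X]) ^ 2 + C a + 1 = 0 := by simpa using congrArg (C : F → F[X]) q
    have h2' : (2 : F[X]) = 0 := by rw [← map_ofNat (C : F →+* F[X]) 2, h2, map_zero]
    let u := X + C a ^ 2 * X ^ 2
    have u3 : φ u ^ 3 = φ u + 1 := by
      have a3' : (C a : F[X]) ^ 3 = 1 := by simpa using congrArg (C : F → F[X]) a3
      have : u ^ 3 = u + 1 + (1 + 3 * C a ^ 2 * X + 3 * C a ^ 4 * X ^ 2 + C a ^ 6 * (X ^ 3 + C a)) * (X ^ 3 - C a) := by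
        simp only [u]
        linear_combination (3 * X + 3 * C a ^ 2 * X ^ 2 + C a ^ 2 * (C a ^ 3 + 1)) * a3' + q' + (X + C a ^ 2 * X ^ 2 - 1) * h2'
      rw [← map_pow, this, map_add, map_mul, k, mul_zero, add_zero, map_add, map_one]
    have t2 : (2 : Matrix (Fin 3) (Fin 3) F) = 0 := by rw [← map_ofNat φ 2, h2', map_zero]
    have u7 : φ u ^ 7 = 1 := by
      have : φ u ^ 7 = φ u * (φ u ^ 3) ^ 2 := by rw [← pow_mul, ← pow_succ']
      rw [this, u3]
      calc _ = φ u ^ 3 + φ u + 2 * φ u ^ 2 := by noncomm_ring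
        _ = 1 + 2 * (φ u + φ u ^ 2) := by rw [u3]; noncomm_ring
        _ = 1 := by rw [t2, zero_mul, add_zero]
    have d7 : (φ u).det ^ 7 = 1 := by rw [← det_pow, u7, det_one]
    have d3 := cube hF (a := (φ u).det) (fun e => by simp [e] at d7)
    refine ⟨⟨φ u, by linear_combination d7 - (φ u).det * ((φ u).det ^ 3 + 1) * d3⟩, fun m => ?_, .inr (Subtype.ext u7), ?_⟩
    · obtain ⟨r, r3, e⟩ := Matrix.SpecialLinearGroup.mem_center_iff.1 m
      change _ = φ u at e
      rw [← e, ← map_pow, ← map_one (scalar (Fin 3)), ← map_add] at u3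
      have := scalar_inj.1 u3
      simp only [Fintype.card_fin] at r3
      have r0 : r = 0 := by linear_combination r3 - this
      simp [r0] at r3
    · have : A = φ X := by simp [φ]
      change A * φ u = φ u * A
      rw [this, ← map_mul, ← map_mul, mul_comm]

end FL

open FL Matrix

/-- `S0243` -/
theorem l34_card (hF : Fintype.card F = 4) : Nat.card (Matrix.ProjectiveSpecialLinearGroup (Fin 3) F) = 20160 := by
  have := Cfsg.Agent.S0243.result hF 3 (by decide)
  simp only [Fin.prod_univ_three] at this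
  norm_num at this
  omega

theorem FL.card_pgl (hF : Fintype.card F = 4) : Nat.card (ProjGenLinGroup (Fin 3) F) = 60480 := by
  have h3 := CL.SL.card_SL_mul (F := F) 3 (by norm_num)
  rw [hF] at h3
  simp only [Fin.prod_univ_three] at h3
  rw [CL.SL.card_PGL_eq_card_SL]
  norm_num at h3
  omega

/-- `S0813` -/
theorem l34_aut (hF : Fintype.card F = 4) :
    Nat.card (MulAut (Matrix.ProjectiveSpecialLinearGroup (Fin 3) F)) = 12 * 20160 := by
  rw [Cfsg.Agent.S0813.result (F := F) 2 2 one_le_two hF 3 (by decide) (by decide), card_pgl hF]; rfl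

/-- The cube of a lift is a scalar; `d` and `d⁻¹` have semisimple lifts with the same characteristic polynomial. -/
theorem l34_real (hF : Fintype.card F = 4) (d : Matrix.ProjectiveSpecialLinearGroup (Fin 3) F) (h : d ^ 9 = 1) :
    d ^ 3 = 1 ∧ ∃ s, s * d * s⁻¹ = d⁻¹ := by
  obtain ⟨x, rfl⟩ := QuotientGroup.mk_surjective d
  rw [← QuotientGroup.mk_pow, QuotientGroup.eq_one_iff] at h
  obtain ⟨c, -, hc⟩ := Matrix.SpecialLinearGroup.mem_center_iff.1 h
  obtain ⟨a, a3, ha⟩ := cube_sc hF (A := x.1) (by rw [x.2]; exact one_ne_zero) (c := c) (by rw [hc]; rfl)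
  have m : x ^ 3 ∈ Subgroup.center _ := Matrix.SpecialLinearGroup.mem_center_iff.2 ⟨a, by simpa using a3, ha.symm⟩
  refine ⟨by rw [← QuotientGroup.mk_pow, QuotientGroup.eq_one_iff]; exact m, ?_⟩
  by_cases n : x ∈ Subgroup.center _
  · exact ⟨1, by rw [(QuotientGroup.eq_one_iff x).2 n]; simp⟩
  have h3 : ((3 : ℕ) : F) ≠ 0 := fun h => one_ne_zero (α := F) (by push_cast at h; linear_combination h - two hF)
  obtain ⟨hx, hx'⟩ := Cfsg.Agent.S2739.charpoly_eq hF x n m
  obtain ⟨hy, hy'⟩ := Cfsg.Agent.S2739.charpoly_eq hF x⁻¹ (fun k => n (inv_mem_iff.1 k)) (inv_pow x 3 ▸ inv_mem m)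
  have sx := CL.GLn.isSemisimple_toLin'_of_pow_eq_one (A := x.1) h3 (congrArg Subtype.val hx)
  have sy := CL.GLn.isSemisimple_toLin'_of_pow_eq_one (A := x⁻¹.1) h3 (congrArg Subtype.val hy)
  obtain ⟨s, hs⟩ := isConj_iff.1 (CL.GLn.isConj_sl_of_isConj (CL.GLn.isConj_of_isSemisimple_of_charpoly_eq sx sy (hx'.trans hy'.symm))
    (CL.GLn.exists_gl_commute_det_of_isSemisimple sx))
  exact ⟨s, by rw [← QuotientGroup.mk_inv, ← QuotientGroup.mk_inv, ← hs]; rfl⟩

open CL.AutPSL in
/-- `α` is induced by a matrix `A` with `A³` scalar and `det A ≠ 1`. -/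
theorem l34_out (hF : Fintype.card F = 4) (α : MulAut (Matrix.ProjectiveSpecialLinearGroup (Fin 3) F)) (h : α ^ 9 = 1)
    (ni : ∀ g, α ≠ MulAut.conj g) : ∃ s, (orderOf s = 2 ∨ orderOf s = 7) ∧ α s = s := by
  have := range_diag_normal (ι := Fin 3) (F := F) (by simp)
  have ix : (diag (Fin 3) F).range.index = 4 := by
    have := (diag (Fin 3) F).range.card_mul_index
    rw [← Nat.card_congr pglEquiv.toEquiv, card_pgl hF, l34_aut hF] at this
    omega
  obtain ⟨A, rfl⟩ : α ∈ (diag (Fin 3) F).range := by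
    have := pow_mem (ix ▸ (diag (Fin 3) F).range.pow_index_mem α) 7
    rwa [← pow_mul, show 4 * 7 = 9 * 3 + 1 from rfl, pow_succ, pow_mul, h, one_pow, one_mul] at this
  rw [← map_pow, diag_eq_one_iff, Cfsg.Geo.mem_scalars_iff] at h
  obtain ⟨c, hc⟩ := h
  have d0 : A.1.det ≠ 0 := A.det_ne_zero
  obtain ⟨a, a3, ha⟩ := cube_sc hF d0 (c := c) (by rw [scalar_apply, ← smul_one_eq_diagonal, ← hc]; rfl)
  have d1 : A.1.det ≠ 1 := fun e => ni _ (by
    rw [← diag_toGL ⟨A.1, e⟩]; exact congrArg _ (Units.ext rfl))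
  obtain ⟨S, n, o, c⟩ := exS hF d0 d1 a3 ha
  have n1 : (QuotientGroup.mk S : ProjectiveSpecialLinearGroup (Fin 3) F) ≠ 1 := fun e => n ((QuotientGroup.eq_one_iff S).1 e)
  have : Fact (Nat.Prime 7) := ⟨Nat.prime_seven⟩
  refine ⟨QuotientGroup.mk S, o.imp (fun e => orderOf_eq_prime ?_ n1) fun e => orderOf_eq_prime ?_ n1, gam_mk ?_⟩
  · rw [← QuotientGroup.mk_pow, e]; rfl
  · rw [← QuotientGroup.mk_pow, e]; rfl
  · rw [CL.AutInd.conjAut_inl, MulAut.conj_apply, eq_mul_inv_iff_mul_eq]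
    exact Units.ext c.symm

end CL.A10S
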