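import Cfsg.Agent.SPOR.F24.U43
import Cfsg.Agent.S0280
import Cfsg.Agent.S0815
import Cfsg.Agent.SPOR.A10.UX

/-! Facts on `U₄(3)`. -/

set_option autoImplicit false

namespace CL.A10S

open Cfsg

namespace FUx

open CL.F24 CL.CG CL.K Matrix

/-- a matrix of order five -/
def A1 : Matrix (Fin 4) (Fin 4) F9 := dec9 0x2000100010001010002000100010000020001000100010200010002000200
/-- its square -/
def A2 : Matrix (Fin 4) (Fin 4) F9 := dec9 0x1000100020002020001000100020001000100010001000002000100020001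
/-- its cube -/
def A3 : Matrix (Fin 4) (Fin 4) F9 := dec9 0x10202010000000002010201000001010000000002020101000000000101
/-- the cyclic basis -/
def C5 : Matrix (Fin 4) (Fin 4) F9 := Matrix.of fun i => ![(1 : Matrix (Fin 4) (Fin 4) F9) i 0, A1 i 0, A2 i 0, A3 i 0]
/-- its inverse -/
def C5' : Matrix (Fin 4) (Fin 4) F9 := dec9 0x102000000000100010000000201020000000200010201000101010002010001

theorem C5_mul : C5 * C5' = 1 := by decide +kernel
theorem C5_mul' : C5' * C5 = 1 := by decide +kernel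
theorem m11 : A1 * A1 = A2 := by decide +kernel
theorem m12 : A1 * A2 = A3 := by decide +kernel
theorem m21 : A2 * A1 = A3 := by decide +kernel
theorem m13 : A1 * A3 = -(1 + A1 + A2 + A3) := by decide +kernel
theorem m31 : A3 * A1 = -(1 + A1 + A2 + A3) := by decide +kernel
theorem m22 : A2 * A2 = -(1 + A1 + A2 + A3) := by decide +kernel
theorem m23 : A2 * A3 = 1 := by decide +kernel
theorem m32 : A3 * A2 = 1 := by decide +kernel
theorem m33 : A3 * A3 = A1 := by decide +kernel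

/-- a polynomial in `A1` -/
def pl (a b c d : F9) : Matrix (Fin 4) (Fin 4) F9 := a • 1 + b • A1 + c • A2 + d • A3

theorem pl_col (a b c d : F9) (i : Fin 4) : pl a b c d i 0 = (C5 *ᵥ ![a, b, c, d]) i := by
  rw [mulVec, dotProduct, Fin.sum_univ_four]
  change a * (1 : Matrix (Fin 4) (Fin 4) F9) i 0 + b * A1 i 0 + c * A2 i 0 + d * A3 i 0 =
    (1 : Matrix (Fin 4) (Fin 4) F9) i 0 * a + A1 i 0 * b + A2 i 0 * c + A3 i 0 * d
  ring

theorem pl_sq (a b c d : F9) : pl a b c d * pl a b c d =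
    pl (a * a + 2 * c * d - (2 * b * d + c * c)) (2 * a * b + d * d - (2 * b * d + c * c))
      (2 * a * c + b * b - (2 * b * d + c * c)) (2 * a * d + 2 * b * c - (2 * b * d + c * c)) := by
  simp only [pl, mul_add, add_mul, smul_mul_assoc, mul_smul_comm, one_mul, mul_one, m11, m12, m21, m13, m31, m22, m23,
    m32, m33]
  module

theorem pl_scal {a b c d e : F9} (h : pl a b c d = e • 1) : b = 0 ∧ c = 0 ∧ d = 0 := by
  have h1 : C5 *ᵥ ![a, b, c, d] = C5 *ᵥ ![e, 0, 0, 0] := by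
    funext i
    rw [← pl_col, ← pl_col, h]
    simp [pl]
  have h2 := congrArg (C5' *ᵥ ·) h1
  simp only [mulVec_mulVec, C5_mul', one_mulVec] at h2
  exact ⟨congrFun h2 1, congrFun h2 2, congrFun h2 3⟩

theorem exists_pl {B : Matrix (Fin 4) (Fin 4) F9} (h : Commute A1 B) : ∃ a b c d, B = pl a b c d := by
  let c := C5' *ᵥ fun i => B i 0
  refine ⟨c 0, c 1, c 2, c 3, ?_⟩
  have c2 : Commute A1 A2 := m12.trans m21.symm
  have c3 : Commute A1 A3 := m13.trans m31.symm
  have h3 : Commute A1 (B - pl (c 0) (c 1) (c 2) (c 3)) :=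
    h.sub_right (((((Commute.one_right _).smul_right _).add_right ((Commute.refl _).smul_right _)).add_right
      (c2.smul_right _)).add_right (c3.smul_right _))
  have h4 : ∀ i, (B - pl (c 0) (c 1) (c 2) (c 3)) i 0 = 0 := fun i => by
    have e : ![c 0, c 1, c 2, c 3] = c := by funext j; fin_cases j <;> rfl
    rw [Matrix.sub_apply, pl_col, e, mulVec_mulVec, C5_mul, one_mulVec, sub_self]
  rw [← sub_eq_zero]
  generalize B - pl (c 0) (c 1) (c 2) (c 3) = D at h3 h4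
  have h5 : ∀ M : Matrix (Fin 4) (Fin 4) F9, Commute M D → ∀ i, (D * M) i 0 = 0 := fun M hM i => by
    rw [← hM.eq, Matrix.mul_apply]; simp [h4]
  rw [← mul_one D, ← C5_mul, ← mul_assoc, show D * C5 = 0 from ?_, zero_mul]
  ext1 i j
  fin_cases j
  · exact h5 1 (Commute.one_left _) i
  · exact h5 A1 h3 i
  · exact h5 A2 (m11 ▸ h3.mul_left h3) i
  · exact h5 A3 (m12 ▸ m11 ▸ h3.mul_left (h3.mul_left h3)) i

theorem chk : ∀ a b c d : F9, 2 * a * b + d * d - (2 * b * d + c * c) = 0 → 2 * a * c + b * b - (2 * b * d + c * c) = 0 →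
    2 * a * d + 2 * b * c - (2 * b * d + c * c) = 0 →
    (∀ j : Fin 4, hermForm 4 F9 3 (pl a b c d *ᵥ Pi.single 0 1) (pl a b c d *ᵥ Pi.single j 1) =
      hermForm 4 F9 3 (Pi.single 0 1) (Pi.single j 1)) → (pl a b c d).det = 1 → b = 0 ∧ c = 0 ∧ d = 0 := by
  decide +kernel

theorem exists_A5 : ∃ A : SU 4 F9 3, Uni.suMat 4 F9 3 A = A1 ∧ A ^ 5 = 1 ∧ orderOf (A : PSU 4 F9 3) = 5 := by
  have : Fact (Nat.Prime 5) := ⟨by norm_num⟩
  obtain ⟨A, -, hA⟩ := mem_of_suB
    (c := 0x2000100010001010002000100010000020001000100010200010002000200) (by decide +kernel)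
  have h1 : Uni.suMat 4 F9 3 A = A1 := code9_injective (hA.trans (by decide +kernel))
  have h2 : A ^ 5 = 1 := isCode9.inj (by
    rw [← isCode9.powC_eq, hA, isCode9.map_one]; decide +kernel)
  refine ⟨A, h1, h2, orderOf_eq_prime (by rw [← QuotientGroup.mk_pow, h2]; rfl) ?_⟩
  rw [Ne, mk_eq_one_iff, hA]; decide +kernel

theorem one_of_comm {a b : PSU 4 F9 3} (hb : orderOf b = 5) (h : a * b = b * a) (a2 : a * a = 1) : a = 1 := by
  have : Finite (PSU 4 F9 3) := Nat.finite_of_card_ne_zero (by rw [card_PSU9]; norm_num)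
  obtain ⟨A, h1, h2, h3⟩ := exists_A5
  obtain ⟨g, hg⟩ := exists_conj_mem (p := 5) (by norm_num) (Subgroup.zpowers (A : PSU 4 F9 3)) (by
    have := (Subgroup.zpowers (A : PSU 4 F9 3)).index_mul_card
    rw [Nat.card_zpowers, h3, card_PSU9] at this
    omega) (u := b) (k := 1) (by rw [pow_one, ← hb, pow_orderOf_eq_one])
  have h4 : Subgroup.zpowers (g⁻¹ * b * g) = Subgroup.zpowers (A : PSU 4 F9 3) :=
    Subgroup.eq_of_le_of_card_ge (Subgroup.zpowers_le.2 hg) (by
      rw [Nat.card_zpowers, Nat.card_zpowers, h3, ← hb]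
      exact (by simpa using CL.Inv.orderOf_conj' g⁻¹ b : orderOf (g⁻¹ * b * g) = _).ge)
  obtain ⟨k, hk⟩ := h4.ge (Subgroup.mem_zpowers _)
  have h5 : Commute (g⁻¹ * a * g) (A : PSU 4 F9 3) := by
    rw [← hk]
    refine Commute.zpow_right ?_ k
    calc g⁻¹ * a * g * (g⁻¹ * b * g) = g⁻¹ * (a * b) * g := by group
      _ = _ := by rw [h]; group
  obtain ⟨B, hB⟩ := QuotientGroup.mk_surjective (g⁻¹ * a * g)
  have h6 : ((A⁻¹ * (B * A * B⁻¹) : SU 4 F9 3) : PSU 4 F9 3) = 1 := by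
    simp only [QuotientGroup.mk_mul, QuotientGroup.mk_inv, hB, h5.eq]; group
  have h7 := UM.pow_eight h6
  have h8 : (A⁻¹ * (B * A * B⁻¹)) ^ 5 = 1 := by
    have := Subgroup.mem_center_iff.1 ((QuotientGroup.eq_one_iff _).1 h6) A
    have h9 : (A * (A⁻¹ * (B * A * B⁻¹))) ^ 5 = 1 := by rw [mul_inv_cancel_left, conj_pow, h2]; simp
    rwa [Commute.mul_pow this, h2, one_mul] at h9
  have h9 : A⁻¹ * (B * A * B⁻¹) = 1 := by
    generalize A⁻¹ * (B * A * B⁻¹) = w at h7 h8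
    calc w = (w ^ 8) ^ 2 * ((w ^ 5) ^ 3)⁻¹ := by group
      _ = 1 := by rw [h7, h8]; simp
  rw [inv_mul_eq_one, eq_mul_inv_iff_mul_eq] at h9
  obtain ⟨c0, c1, c2, c3, e⟩ := exists_pl (B := Uni.suMat 4 F9 3 B)
    (by rw [← h1, Commute, SemiconjBy, ← map_mul, h9, map_mul])
  have h10 : ((B * B : SU 4 F9 3) : PSU 4 F9 3) = 1 := by
    rw [QuotientGroup.mk_mul, hB]
    calc g⁻¹ * a * g * (g⁻¹ * a * g) = g⁻¹ * (a * a) * g := by group
      _ = 1 := by rw [a2]; group
  obtain ⟨l, hl⟩ := (Uni.psu_mk_eq_one_iff card_F9 (by norm_num)).1 h10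
  rw [map_mul, e, pl_sq] at hl
  obtain ⟨d1, d2, d3⟩ := pl_scal hl
  obtain ⟨rfl, rfl, rfl⟩ := chk c0 c1 c2 c3 d1 d2 d3 (fun j => e ▸ B.2 _ _) (e ▸ B.1.2)
  have h11 : (B : PSU 4 F9 3) = 1 := (Uni.psu_mk_eq_one_iff card_F9 (by norm_num)).2 ⟨c0, by rw [e]; simp [pl]⟩
  rw [hB] at h11
  calc a = g * (g⁻¹ * a * g) * g⁻¹ := by group
    _ = 1 := by rw [h11]; group

end FUx

/-- `S0280` -/
theorem u43_card : Nat.card (PSU 4 F24.F9 3) = 3265920 := by
  exact F24.card_PSU9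

/-- `S0815` -/
theorem u43_aut : Nat.card (MulAut (PSU 4 F24.F9 3)) = 8 * 3265920 := by
  have : Fact (Nat.Prime 3) := ⟨Nat.prime_three⟩
  rw [Cfsg.Agent.S0815.result 3 1 le_rfl (by norm_num) F24.card_F9 4 (by norm_num) (by norm_num), u43_card]
  rfl

/-- the images of `diag(i, -i, 1, 1)` and `diag(i, 1, -i, 1)`, `i² = -1` -/
theorem u43_c4 : ∃ a b : PSU 4 F24.F9 3, a * b = b * a ∧ a ^ 4 = 1 ∧ b ^ 4 = 1 ∧ a ^ 2 ≠ 1 ∧ b ^ 2 ≠ 1 ∧ a ^ 2 * b ^ 2 ≠ 1 := by
  obtain ⟨A, -, hA⟩ := F24.mem_of_suB (c := 0x2000000000101000000000100000000000000000000) (by decide +kernel)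
  obtain ⟨B, -, hB⟩ := F24.mem_of_suB (c := 0x20000000000000000000101000000000000000000010000000000) (by decide +kernel)
  refine ⟨A, B, ?_, ?_, ?_, ?_, ?_, ?_⟩
  · rw [← QuotientGroup.mk_mul, ← QuotientGroup.mk_mul]
    refine congrArg _ (F24.isCode9.inj ?_)
    rw [← F24.isCode9.map_mul, ← F24.isCode9.map_mul, hA, hB]
    decide +kernel
  · rw [← QuotientGroup.mk_pow, F24.mk_eq_one_iff, ← F24.isCode9.powC_eq, hA]
    decide +kernel
  · rw [← QuotientGroup.mk_pow, F24.mk_eq_one_iff, ← F24.isCode9.powC_eq, hB]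
    decide +kernel
  · rw [← QuotientGroup.mk_pow, Ne, F24.mk_eq_one_iff, ← F24.isCode9.powC_eq, hA]
    decide +kernel
  · rw [← QuotientGroup.mk_pow, Ne, F24.mk_eq_one_iff, ← F24.isCode9.powC_eq, hB]
    decide +kernel
  · rw [← QuotientGroup.mk_pow, ← QuotientGroup.mk_pow, ← QuotientGroup.mk_mul, Ne, F24.mk_eq_one_iff,
      ← F24.isCode9.map_mul, ← F24.isCode9.powC_eq, ← F24.isCode9.powC_eq, hA, hB]
    decide +kernel

/-- One class of involutions with `|C(t)| = 1152` (`CL.UH.Hy.card_cent` and `Hy.iso` on `UM.pres_gX`), or: an element of order five is conjugate to a power of an explicit `b`, lift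
`b` to `B` of order five in `SU₄(3)`; a lift `A` of an involution commuting with `b` commutes with `B` (the centre has order four), so `A` is a polynomial in `B` (cyclic vector), and
`A` unitary, `det A = 1`, `A²` scalar force `A` scalar (`9⁴` cases, `decide`). -/
theorem u43_n10 (g : PSU 4 F24.F9 3) : orderOf g ≠ 10 := by
  intro h
  have h5 : orderOf (g ^ 2) = 5 := by rw [orderOf_pow' _ (by norm_num), h]; rfl
  have h2 : orderOf (g ^ 5) = 2 := by rw [orderOf_pow' _ (by norm_num), h]; rfl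
  have h1 := FUx.one_of_comm (a := g ^ 5) h5 (by group) (by rw [← pow_two, ← h2, pow_orderOf_eq_one])
  rw [h1, orderOf_one] at h2
  omega

end CL.A10S
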