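import Cfsg.Agent.REC.J3O.Rank
import Cfsg.Agent.SYL.SR4.Top
import Cfsg.Agent.S1169
import Cfsg.Agent.S1170
import Cfsg.Agent.S0222
import Cfsg.Agent.FUS.LR.KJ3

/-! Simple groups whose Sylow 2-subgroups have order at most 128. -/

set_option autoImplicit false

namespace CL.A10S

open Subgroup Cfsg J3O
open scoped commutatorElement

universe u

/-- the families -/
def Fam (G : Type*) [Group G] : Prop :=
  (∃ (F : Type) (_ : Field F) (_ : Fintype F) (n : ℕ), 2 ≤ n ∧ n ≤ 5 ∧ Nonempty (G ≃* Matrix.ProjectiveSpecialLinearGroup (Fin n) F)) ∨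
  (∃ (F : Type) (_ : Field F) (_ : Fintype F) (n q : ℕ), Fintype.card F = q ^ 2 ∧ 3 ≤ n ∧ n ≤ 5 ∧ Nonempty (G ≃* PSU n F q)) ∨
  (∃ (F : Type) (_ : Field F) (_ : Fintype F), Nonempty (G ≃* PSp 2 F)) ∨
  (∃ (E : Type) (_ : Field E) (_ : Fintype E), Odd (Fintype.card E) ∧ Nonempty (G ≃* Lie.chevG2.group E)) ∨
  (∃ (K : Type) (_ : Field K) (_ : Fintype K) (r : ℕ), Odd r ∧ Fintype.card K = r ^ 3 ∧ Nonempty (G ≃* Lie.twistedD4 K r)) ∨
  IsSuzuki G ∨ IsRee G ∨ (∃ n : ℕ, 7 ≤ n ∧ n ≤ 11 ∧ Nonempty (G ≃* alternatingGroup (Fin n))) ∨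
  Nat.card G ∈ ({7920, 95040, 443520, 10200960, 175560, 50232960, 898128000, 51765179004000000} : Finset ℕ) ∨ Spor.IsoJ2 G

namespace Fam

variable {G : Type*} [Group G]

theorem psl {F : Type} [Field F] [Fintype F] {n : ℕ} (e : G ≃* Matrix.ProjectiveSpecialLinearGroup (Fin n) F)
    (h2 : 2 ≤ n := by norm_num) (h5 : n ≤ 5 := by norm_num) : Fam G := .inl ⟨F, _, inferInstance, n, h2, h5, ⟨e⟩⟩

theorem psu {F : Type} [Field F] [Fintype F] {n q : ℕ} (hF : Fintype.card F = q ^ 2) (e : G ≃* PSU n F q)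
    (h2 : 3 ≤ n := by norm_num) (h5 : n ≤ 5 := by norm_num) : Fam G := .inr (.inl ⟨F, _, _, n, q, hF, h2, h5, ⟨e⟩⟩)

theorem psp {F : Type} [Field F] [Fintype F] (e : G ≃* PSp 2 F) : Fam G := .inr (.inr (.inl ⟨F, _, inferInstance, ⟨e⟩⟩))

theorem g2 {F : Type} [Field F] [Fintype F] (h : Odd (Fintype.card F)) (e : G ≃* Lie.chevG2.group F) : Fam G :=
  .inr (.inr (.inr (.inl ⟨F, _, _, h, ⟨e⟩⟩)))

theorem d4 {K : Type} [Field K] [Fintype K] {r : ℕ} (h : Odd r) (hK : Fintype.card K = r ^ 3) (e : G ≃* Lie.twistedD4 K r) : Fam G :=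
  .inr (.inr (.inr (.inr (.inl ⟨K, _, _, r, h, hK, ⟨e⟩⟩))))

theorem sz (h : IsSuzuki G) : Fam G := .inr (.inr (.inr (.inr (.inr (.inl h)))))

theorem ree (h : IsRee G) : Fam G := .inr (.inr (.inr (.inr (.inr (.inr (.inl h))))))

theorem alt {n : ℕ} (e : G ≃* alternatingGroup (Fin n)) (h7 : 7 ≤ n := by norm_num) (h11 : n ≤ 11 := by norm_num) : Fam G :=
  .inr (.inr (.inr (.inr (.inr (.inr (.inr (.inl ⟨n, h7, h11, ⟨e⟩⟩)))))))

theorem spor {n : ℕ} (h : Nat.card G = n)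
    (hn : n ∈ ({7920, 95040, 443520, 10200960, 175560, 50232960, 898128000, 51765179004000000} : Finset ℕ) := by decide) : Fam G :=
  .inr (.inr (.inr (.inr (.inr (.inr (.inr (.inr (.inl (h ▸ hn)))))))))

theorem j2 (h : Spor.IsoJ2 G) : Fam G := .inr (.inr (.inr (.inr (.inr (.inr (.inr (.inr (.inr h))))))))

end Fam

variable {G : Type u} [Group G] [Finite G]

/-- the bound on the subgroups of a Sylow subgroup gives the sectional rank -/
theorem sr4_of_rank {T : Sylow 2 G} (h : ∀ A ≤ (T : Subgroup G), (Fr A).relIndex A ≤ 16) : SectionalPRankLE 2 4 G := by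
  refine SecR.sectional_top fun A B hB hs => ?_
  have hn : (B.subgroupOf A).Normal := SecR.normal_of_sq hs
  obtain ⟨S⟩ : Nonempty (Sylow 2 A) := inferInstance
  have hq : IsPGroup 2 (A ⧸ B.subgroupOf A) := by
    intro x
    refine ⟨1, ?_⟩
    induction x using QuotientGroup.induction_on with
    | H a =>
      rw [pow_one, ← QuotientGroup.mk_pow, QuotientGroup.eq_one_iff, Subgroup.mem_subgroupOf, pow_two]
      exact hs a a.2
  obtain ⟨k, hk⟩ := IsPGroup.iff_card.1 hq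
  have htop : (S : Subgroup A) ⊔ B.subgroupOf A = ⊤ := by
    rw [← Subgroup.index_eq_one]
    have d1 : ((S : Subgroup A) ⊔ B.subgroupOf A).index ∣ 2 ^ k := by
      rw [← hk]; exact Subgroup.index_dvd_of_le le_sup_right
    have d2 : ((S : Subgroup A) ⊔ B.subgroupOf A).index ∣ (S : Subgroup A).index := Subgroup.index_dvd_of_le le_sup_left
    obtain ⟨j, -, e⟩ := (Nat.dvd_prime_pow Nat.prime_two).1 d1
    cases j with
    | zero => simpa using e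
    | succ j => exact absurd (dvd_trans (by rw [e]; exact dvd_pow_self 2 (Nat.succ_ne_zero j)) d2) S.not_dvd_index
  set S' : Subgroup G := (S : Subgroup A).map A.subtype with hS'
  have e1 : B.relIndex A = B.relIndex S' := by
    have : B.relIndex A = (B.subgroupOf A).relIndex ((S : Subgroup A) ⊔ B.subgroupOf A) := by
      rw [htop, Subgroup.relIndex_top_right]; rfl
    rw [this, Subgroup.relIndex_sup_right, hS', ← Subgroup.relIndex_comap]; rfl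
  have pS : IsPGroup 2 S' := S.isPGroup'.map _
  obtain ⟨Q, hQ⟩ := pS.exists_le_sylow
  obtain ⟨g, hg⟩ := MulAction.exists_smul_eq G Q T
  have le : cj g S' ≤ T := by
    rintro _ ⟨x, hx, rfl⟩
    rw [← hg]
    exact Subgroup.smul_mem_pointwise_smul x (MulAut.conj g) (Q : Subgroup G) (hQ hx)
  have r := h _ le
  rw [← Rank.Fr_map, Subgroup.relIndex_map_map_of_injective _ _ (MulAut.conj g).injective] at r
  have fB : Fr S' ≤ B := by
    rw [Fr_le_iff]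
    rintro _ ⟨x, -, rfl⟩
    exact hs _ x.2
  rw [e1]
  exact (Subgroup.relIndex_le_of_le_left fB Subgroup.FiniteIndex.index_ne_zero).trans r

/-- a 2-group of order at most 64 and class at least three has sectional rank at most four -/
theorem rank64 {T A : Subgroup G} (hT : IsPGroup 2 T) (c : Nat.card T ≤ 64) (nc : ¬ C2 T) (le : A ≤ T) : (Fr A).relIndex A ≤ 16 := by
  by_contra! h
  obtain ⟨a, ha⟩ := (hT.to_le le).exists_card_eq
  have m1 := Rank.card_mul (Fr_le (E := A))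
  have m2 := Rank.card_mul le
  obtain ⟨k, -, hk⟩ := (Nat.dvd_prime_pow Nat.prime_two).1 (ha ▸ Dvd.intro_left _ m1)
  have h32 : 32 ≤ (Fr A).relIndex A := by
    rw [hk] at h ⊢
    exact Nat.pow_le_pow_right two_pos (show 5 ≤ k from (Nat.pow_lt_pow_iff_right one_lt_two).1 (show 2 ^ 4 < 2 ^ k from h))
  have p1 : 0 < Nat.card (Fr A) := Nat.card_pos
  have p2 : 0 < A.relIndex T := Nat.pos_of_ne_zero FiniteIndex.index_ne_zero
  by_cases e : Nat.card (Fr A) = 1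
  · refine nc (c2_of_el (fun x hx => ?_) le (by rw [e] at m1; nlinarith))
    have := sq_mem_Fr hx
    rwa [Subgroup.card_eq_one.1 e, mem_bot] at this
  have e2 : Nat.card (Fr A) = 2 := by
    have : Nat.card (Fr A) * 32 ≤ 64 := by nlinarith
    omega
  have eq : A = T := eq_of_le_of_card_ge le (by rw [e2] at m1; omega)
  subst eq
  refine nc fun x hx y hy z hz => ?_
  have m := comm_mem_Fr hx hy
  have m' := (mem_normalizer_iff.1 (Nz_le_Fr (le_normalizer hz)) _).1 m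
  by_cases o : ⁅x, y⁆ = 1
  · rw [o, mul_one, one_mul]
  obtain ⟨w, -, hw⟩ := (Nat.card_eq_two_iff' (1 : Fr A)).1 e2
  have := (hw ⟨_, m'⟩ fun q => o (by simpa using congrArg Subtype.val q)).trans (hw ⟨_, m⟩ fun q => o (congrArg Subtype.val q)).symm
  exact mul_inv_eq_iff_eq_mul.1 (congrArg Subtype.val this)

variable [IsSimpleGroup G]

theorem fam_ab (hG : ¬ IsMulCommutative G) (S : Sylow 2 G) (hS : IsMulCommutative (S : Subgroup G)) : Fam G := by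
  obtain ⟨a, -, F, _, _, -, ⟨e⟩⟩ | ⟨F, _, _, -, ⟨e⟩⟩ | h | h := Agent.S0506.result hG S hS
  exacts [.psl e, .psl e, .ree h, .spor h.2]

theorem fam_se (hG : ¬ IsMulCommutative G) {H : Subgroup G} (hH : IsStronglyEmbedded H) : Fam G := by
  have hna : ∃ a b : G, a * b ≠ b * a := by
    by_contra! c
    exact hG ⟨⟨c⟩⟩
  obtain ⟨F, _, _, -, -, ⟨e⟩⟩ | h | ⟨F, _, _, q, hF, -, -, ⟨e⟩⟩ := Agent.S0222.result hna H hH
  exacts [.psl e, .sz h, .psu hF e]

theorem fam_sc (hG : ¬ IsMulCommutative G) (T : Sylow 2 G) {R : Subgroup G} (hR : R ≠ ⊥) (h2 : C2 R)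
    (h : IsStronglyClosed R (T : Subgroup G)) : Fam G := by
  by_cases ab : IsMulCommutative R
  · exact (Agent.S1169.result T R hR ab h).elim (fam_ab hG T) fun ⟨H, hH⟩ => fam_se hG hH
  have c2 : ⁅(⊤ : Subgroup R), ⊤⁆ ≤ center R := commutator_le.2 fun a _ b _ =>
    mem_center_iff.2 fun c => Subtype.ext (h2 a a.2 b b.2 c c.2)
  obtain ⟨F, _, _, -, ⟨e⟩⟩ | ⟨F, _, _, q, hF, -, -, ⟨e⟩⟩ | h | ⟨F, _, _, -, ⟨e⟩⟩ | ⟨F, _, _, -, -, ⟨e⟩⟩ | ⟨⟨e⟩⟩ :=
    Agent.S1170.result T R h ab c2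
  exacts [.psl e, .psu hF e, .sz h, .psl e, .psp e, .alt e]

theorem fam_of_ty (hG : ¬ IsMulCommutative G) (h4 : SR4.SR 4 G) (h : SR4.Ty G) : Fam G := by
  have ly : Spor.IsoLy G → Fam G := fun ⟨e⟩ => .spor ((Nat.card_congr e.toEquiv).trans Ly.card)
  have j3 : Spor.IsoJ3 G → Fam G := fun h => by
    obtain ⟨-, -, -, h⟩ := LR.KJ3.exists_mdl h
    exact .spor h
  rcases h with (h | ⟨S, h⟩ | ⟨H, h⟩) | h | h | ⟨n, φ, h⟩ | ⟨φ, h⟩ | h | ⟨F, _, _, hF, S, P, ⟨e⟩⟩ | ⟨S, P, e⟩ |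
    ⟨S, P, e⟩ | h | h | h | ⟨⟨e⟩⟩ | ⟨⟨e⟩⟩ | h
  · rcases Agent.S0482.result hG h with ⟨F, _, _, -, -, ⟨e⟩⟩ | ⟨F, _, _, -, ⟨e⟩⟩ | ⟨F, _, _, q, hF, -, ⟨e⟩⟩ |
      ⟨F, _, _, hF, ⟨e⟩⟩ | ⟨⟨e⟩⟩ | h
    exacts [.psl e, .psl e, .psu hF e, .psu (q := 4) hF e, .alt e, .spor h.2]
  · exact fam_ab hG S h
  · exact fam_se hG h
  · rcases SR4.tyG_out h with ⟨E, _, _, hE, ⟨e⟩⟩ | ⟨K, _, _, r, ho, hK, ⟨e⟩⟩ | ⟨⟨e⟩⟩
    exacts [.g2 hE e, .d4 ho hK e, .spor ((Nat.card_congr e.toEquiv).trans MathMdl.card_M12)]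
  · obtain ⟨F, _, _, -, ⟨e⟩⟩ | ⟨⟨e⟩⟩ | ⟨⟨e⟩⟩ := SR4.tyP_out h
    exacts [.psp e, .alt e, .alt e]
  · obtain ⟨⟨e⟩⟩ | ⟨⟨e⟩⟩ | ⟨F, _, _, q, -, -, ⟨e⟩⟩ | ⟨F, _, _, q, hF, -, ⟨e⟩⟩ := O6.typeII h (P4S.cz_zmod n)
    exacts [.alt e, .alt e, .psl e, .psu hF e]
  · rcases (O6.out0_of_sy h).out (O6.not_comm_I h) with ⟨F, _, _, -, ⟨e⟩⟩ | ⟨F, _, _, r, hF, -, ⟨e⟩⟩ | e | e | e
    exacts [.psl e, .psu hF e, .spor e.2, .spor e.2, .spor e.2]
  · rcases SR4.tyL_out h4 h with ⟨F, _, _, -, ⟨e⟩⟩ | ⟨F, _, _, q, hF, -, ⟨e⟩⟩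
    exacts [.psl e, .psu hF e]
  · obtain ⟨f, hf⟩ := SR4.KA.uni3 F
    obtain ⟨Q, hQ⟩ := IsPGroup.exists_le_sylow (p := 2) (P := f.range) fun x =>
      ⟨1, Subtype.ext (by simpa [sq] using SR4.KA.sq_range f (SR4.KA.sq4 hF) x x.2)⟩
    let φ : Multiplicative (F × F) →* G := (S : Subgroup G).subtype.comp
      (((Q.equiv P).trans e.symm).toMonoidHom.comp (f.codRestrict _ fun x => hQ ⟨x, rfl⟩))
    have hφ : Function.Injective φ := (subtype_injective _).comp (((Q.equiv P).trans e.symm).injective.comp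
      fun x y l => hf (congrArg Subtype.val l))
    obtain ⟨j⟩ := Agent.S1769.result (fun h => by
      have := h φ.range inferInstance fun x hx => by rw [sq, SR4.KA.sq_range φ (SR4.KA.sq4 hF) x hx]
      rw [SR4.KA.card_range hφ] at this
      simp [hF] at this) 2 le_rfl hF 3 le_rfl S P ⟨e⟩
    exact .psl j
  · exact (Agent.S1776.result S P e).elim .j2 j3
  · exact ly (Agent.S3100.result hG S ⟨P, e⟩)
  · obtain ⟨F, _, _, hF, ⟨⟨e⟩⟩ | ⟨⟨e⟩⟩ | ⟨⟨e⟩⟩⟩ | ⟨F, _, _, hF, ⟨e⟩⟩ | ⟨F, _, _, hF, ⟨e⟩⟩ | ⟨n, h1, h2, ⟨e⟩⟩ |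
      ⟨⟨e⟩⟩ := h
    exacts [.psl e, .psp e, .g2 (by rw [hF]; decide) e, .psu (q := 3) hF e, .psl e, .alt e (by omega) h2,
      .spor ((Nat.card_congr e.toEquiv).trans MathMdl.card_M22)]
  · exact .j2 h
  · exact j3 h
  · exact .spor ((Nat.card_congr e.toEquiv).trans MathMdl.card_M23)
  · exact .spor ((Nat.card_congr e.toEquiv).trans Leech.card_McL)
  · exact ly h

theorem fam_of_sr4 (hG : ¬ IsMulCommutative G) (h4 : SR4.SR 4 G) : Fam G :=
  fam_of_ty hG h4 (SR4.ty hG h4 fun _ _ _ _ hK k4 _ => SR4.cls hK k4 (SR4.kn hK k4))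

/-- Sylow 2-subgroups of order at most 64 -/
theorem fam64 (hG : ¬ IsMulCommutative G) (h : ¬ 128 ∣ Nat.card G) : Fam G := by
  obtain ⟨T⟩ : Nonempty (Sylow 2 G) := inferInstance
  by_cases b : (T : Subgroup G) = ⊥
  · exact fam_ab hG T (by rw [b]; infer_instance)
  by_cases c : C2 (T : Subgroup G)
  · exact fam_sc hG T b c ⟨le_rfl, fun _ _ _ h => h⟩
  refine fam_of_sr4 hG (sr4_of_rank (T := T) fun A le => rank64 T.isPGroup' ?_ c le)
  obtain ⟨k, hk⟩ := T.isPGroup'.exists_card_eq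
  rw [hk]
  refine Nat.pow_le_pow_right two_pos (show k ≤ 6 from le_of_not_gt fun l => h ?_)
  exact (pow_dvd_pow 2 (show 7 ≤ k from l)).trans (hk ▸ card_subgroup_dvd_card _)

/-- Sylow 2-subgroups of order at most 128 -/
theorem fam (hG : ¬ IsMulCommutative G) (h : ¬ 256 ∣ Nat.card G) (n14 : ∀ g : G, orderOf g ≠ 14) (n31 : ¬ 31 ∣ Nat.card G) : Fam G := by
  by_cases h7 : 128 ∣ Nat.card G
  swap
  · exact fam64 hG h7
  obtain ⟨T⟩ : Nonempty (Sylow 2 G) := inferInstance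
  by_cases sc : ∃ R : Subgroup G, R ≠ ⊥ ∧ C2 R ∧ IsStronglyClosed R (T : Subgroup G)
  · obtain ⟨R, h1, h2, h3⟩ := sc
    exact fam_sc hG T h1 h2 h3
  obtain ⟨m, hm⟩ := h7
  have om : m % 2 = 1 := by
    by_contra e
    exact h (hm ▸ Nat.mul_dvd_mul_left 128 (show 2 ∣ m by omega))
  have cT : Nat.card T = 128 := SR4.KS.syl_card T (k := 7) (m := m) hm om
  refine fam_of_sr4 hG (Hyp.sr4 (T := T) ⟨cT, n14, n31, ?_, fun R h1 h2 h3 => sc ⟨R, h1, h2, h3⟩⟩)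
  have hn : (pResidual 2 G).Normal := ⟨fun x hx g => by
    have : (pResidual 2 G).map (MulAut.conj g).toMonoidHom ≤ pResidual 2 G := by
      rw [pResidual, MonoidHom.map_closure]
      refine closure_mono ?_
      rintro _ ⟨y, hy, rfl⟩
      have k : orderOf ((MulAut.conj g).toMonoidHom y) = orderOf y := (MulAut.conj g).orderOf_eq y
      exact (show Nat.Coprime (orderOf _) 2 by rw [k]; exact hy)
    exact this (mem_map_of_mem _ hx)⟩
  refine hn.eq_bot_or_eq_top.resolve_left fun e => ?_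
  have m1 : m = 1 := by
    by_contra m1
    have : Fact m.minFac.Prime := ⟨Nat.minFac_prime m1⟩
    obtain ⟨x, hx⟩ := exists_prime_orderOf_dvd_card' (G := G) m.minFac (hm ▸ (Nat.minFac_dvd m).mul_left _)
    have : x ∈ pResidual 2 G := subset_closure (show Nat.Coprime (orderOf x) 2 by
      rw [hx]
      exact Nat.Coprime.coprime_dvd_left (Nat.minFac_dvd m) (Nat.coprime_two_right.2 (Nat.odd_iff.2 om)))
    rw [e, mem_bot] at this
    rw [this, orderOf_one] at hx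
    exact (Nat.minFac_prime m1).one_lt.ne hx
  have pG : IsPGroup 2 G := IsPGroup.of_card (n := 7) (by rw [hm, m1]; rfl)
  have := pG.center_nontrivial
  have ct := (IsSimpleGroup.eq_bot_or_eq_top_of_normal (center G) inferInstance).resolve_left (nontrivial_iff_ne_bot _ |>.1 this)
  exact hG ⟨⟨fun a b => mem_center_iff.1 (ct ▸ mem_top b) a⟩⟩

end CL.A10S
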