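import Cfsg.Agent.REC.A10S.Red

/-! Groups with the element orders of `A₁₀`: the action on the normal subgroup of odd order. -/

set_option autoImplicit false

namespace CL.A10S

open Subgroup Cfsg CL.PComp
open scoped commutatorElement Pointwise

variable {G : Type*} [Group G]

theorem conj_pow_cube {x y : G} (e : y * x * y⁻¹ = x ^ 3) (n : ℕ) : y ^ n * x * (y ^ n)⁻¹ = x ^ 3 ^ n := by
  induction n with
  | zero => simp
  | succ n ih =>
    calc _ = y ^ n * (y * x * y⁻¹) * (y ^ n)⁻¹ := by group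
      _ = _ := by rw [e, ← conj_pow, ih, ← pow_mul, pow_succ]

theorem six_dvd {x y : G} (hx : orderOf x = 7) (e : y * x * y⁻¹ = x ^ 3) {n : ℕ} (hn : y ^ n = 1) : 6 ∣ n := by
  have h := conj_pow_cube e n
  rw [hn, one_mul, inv_one, mul_one] at h
  have h0 : 3 ^ n ≡ 1 [MOD 7] := by rw [← hx, ← pow_eq_pow_iff_modEq, ← h, pow_one]
  rw [← Nat.div_add_mod n 6, pow_add, pow_mul] at h0
  have h1 : (3 ^ 6) ^ (n / 6) * 3 ^ (n % 6) ≡ 1 ^ (n / 6) * 3 ^ (n % 6) [MOD 7] :=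
    ((show 3 ^ 6 ≡ 1 [MOD 7] by decide).pow (n / 6)).mul_right (3 ^ (n % 6))
  have h2 := h1.symm.trans h0
  rw [one_pow, one_mul] at h2
  have : ∀ r < 6, 3 ^ r ≡ 1 [MOD 7] → r = 0 := by decide
  exact Nat.dvd_of_mod_eq_zero (this _ (Nat.mod_lt n (by norm_num)) h2)

theorem Sp.pow12 (h : Sp G) {g : G} (d : 6 ∣ orderOf g) : g ^ 12 = 1 := by
  have : ∀ n ∈ W, 6 ∣ n → n ∣ 12 := by decide
  exact orderOf_dvd_iff_pow_eq_one.1 (this _ (h g) d)

theorem Sp.pow6 (h : Sp G) {x y : G} (hx : orderOf x = 7) (e : y * x * y⁻¹ = x ^ 3) : y ^ 6 = 1 := by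
  refine h.n14 hx (by rw [← pow_add]; exact h.pow12 (six_dvd hx e (pow_orderOf_eq_one y))) ?_
  have := conj_pow_cube e 6
  rw [pow_eq_pow_mod _ (hx ▸ pow_orderOf_eq_one x : x ^ 7 = 1)] at this
  exact (mul_inv_eq_iff_eq_mul.1 (this.trans (pow_one x))).symm

/-- the partition of the Frobenius group of order 42 -/
theorem ring42 {R : Type*} [Ring R] {X Y : R} (h7 : X ^ 7 = 1) (e : Y * X = X ^ 3 * Y)
    (h : ∀ j : ℕ, ∑ i ∈ Finset.range 6, (X ^ j * Y) ^ i = 0) : 7 * X = 7 := by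
  have e1 : ∀ j : ℕ, Y * X ^ j = X ^ (3 * j) * Y := fun j => by
    induction j with
    | zero => simp
    | succ j ih => rw [pow_succ, ← mul_assoc, ih, mul_assoc, e, ← mul_assoc, ← pow_add, mul_add, mul_one]
  have e2 : ∀ i j : ℕ, Y ^ i * X ^ j = X ^ (3 ^ i * j) * Y ^ i := fun i => by
    induction i with
    | zero => simp
    | succ i ih => intro j; rw [pow_succ, mul_assoc, e1, ← mul_assoc, ih, mul_assoc, ← mul_assoc (3 ^ i), ← pow_succ, ← pow_succ]
  have e3 : ∀ j i : ℕ, (X ^ j * Y) ^ i = X ^ ((∑ l ∈ Finset.range i, 3 ^ l) * j) * Y ^ i := fun j i => by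
    induction i with
    | zero => simp
    | succ i ih => rw [pow_succ, ih, mul_assoc, ← mul_assoc (Y ^ i), e2, ← mul_assoc, ← mul_assoc, ← pow_add, mul_assoc,
        ← pow_succ, Finset.sum_range_succ, add_mul]
  have md : ∀ n : ℕ, X ^ n = X ^ (n % 7) := fun n => pow_eq_pow_mod n h7
  obtain ⟨N, hN⟩ : ∃ N, N = ∑ j ∈ Finset.range 7, X ^ j := ⟨_, rfl⟩
  have s : ∀ c ∈ ({1, 4, 13, 40, 121} : Finset ℕ), ∑ j ∈ Finset.range 7, X ^ (c * j) = N := fun c hc => by
    simp only [Finset.mem_insert, Finset.mem_singleton] at hc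
    rw [hN, Finset.sum_congr rfl fun j _ => md (c * j)]
    rcases hc with rfl | rfl | rfl | rfl | rfl <;> simp only [Finset.sum_range_succ, Finset.sum_range_zero] <;> norm_num <;> abel
  have t : ∑ j ∈ Finset.range 7, ∑ i ∈ Finset.range 6, (X ^ j * Y) ^ i = 0 := Finset.sum_eq_zero fun j _ => h j
  rw [Finset.sum_comm] at t
  simp only [e3, ← Finset.sum_mul] at t
  have h0 := h 0
  simp only [Finset.sum_range_succ _ 5, Finset.sum_range_succ _ 4, Finset.sum_range_succ _ 3, Finset.sum_range_succ _ 2,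
    Finset.sum_range_succ _ 1, Finset.sum_range_succ _ 0, Finset.sum_range_zero] at t h0
  norm_num at t h0
  have s1 := s 1 (by simp)
  simp only [one_mul] at s1
  rw [s1, s 4 (by simp), s 13 (by simp), s 40 (by simp), s 121 (by simp)] at t
  have n7 : N = 7 := by
    have := congrArg (N * ·) h0
    simp only [mul_add, mul_one, mul_zero] at this
    rw [← sub_eq_zero, ← neg_eq_zero, ← t, ← sub_eq_zero, ← neg_eq_zero, ← this]
    abel
  have : N * X = N := by
    rw [hN]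
    simp only [Finset.sum_range_succ, Finset.sum_range_zero, add_mul, ← pow_succ, zero_mul]
    norm_num [h7]
    abel
  rwa [n7] at this

variable [Finite G]

omit [Finite G] in
theorem ord_quot {K : Subgroup G} [K.Normal] {x : G} {p : ℕ} [Fact p.Prime] (hx : orderOf x = p) (n : ¬ p ∣ Nat.card K) :
    orderOf (x : G ⧸ K) = p :=
  orderOf_eq_prime (by rw [← QuotientGroup.mk_pow, ← hx, pow_orderOf_eq_one, QuotientGroup.mk_one]) fun e =>
    n (hx ▸ orderOf_dvd_natCard K ((QuotientGroup.eq_one_iff x).1 e))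

omit [Finite G] in
theorem cen_ab (h : Sp G) {V : Subgroup G} [V.Normal] (c : ∀ a b : V, a * b = b * a) (o : Odd (Nat.card V))
    (n : ¬ 7 ∣ Nat.card V) {x y : G} (hx : orderOf x = 7) (e : y * x * y⁻¹ = x ^ 3) : ∀ v ∈ V, x * v = v * x := by
  have : Fact (Nat.Prime 7) := ⟨by norm_num⟩
  let : CommGroup V := { (inferInstance : Group V) with mul_comm := c }
  let ρ : G →* AddMonoid.End (Additive V) :=
    { toFun := fun g => MonoidHom.toAdditive (MulAut.conjNormal g : MulAut V).toMonoidHom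
      map_one' := AddMonoidHom.ext fun v => Subtype.ext (by simp; rfl)
      map_mul' := fun g g' => AddMonoidHom.ext fun v => Subtype.ext (by simp; rfl) }
  have hρ : ∀ g (v : V), ((ρ g (Additive.ofMul v)).toMul : G) = g * v * g⁻¹ := fun _ _ => rfl
  have N : ∀ g : G, g * x * g⁻¹ = x ^ 3 → ∑ i ∈ Finset.range 6, ρ g ^ i = 0 := fun g hg => by
    have g6 := h.pow6 hx hg
    refine AddMonoidHom.ext fun (v : V) => ?_
    have e1 : ((v * g : G) : G ⧸ V) = g := by rw [QuotientGroup.mk_mul, (QuotientGroup.eq_one_iff _).2 v.2, one_mul]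
    have m : (v * g) ^ 6 ∈ V := by
      rw [← QuotientGroup.eq_one_iff, QuotientGroup.mk_pow, e1, ← QuotientGroup.mk_pow, g6, QuotientGroup.mk_one]
    have d : 6 ∣ orderOf (v * g : G) := six_dvd (ord_quot (K := V) hx n) (y := (g : G ⧸ V))
      (by rw [← QuotientGroup.mk_pow, ← hg]; rfl) (by rw [← e1, ← QuotientGroup.mk_pow, pow_orderOf_eq_one]; rfl)
    have e6 : (v * g : G) ^ 6 = 1 := eq_one_of_coprime_of_pow (p := 2) (k := 1)
      (coprime_orderOf_of_mem (Nat.coprime_two_right.2 o) m) (by rw [← pow_mul]; exact h.pow12 d)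
    simp only [Finset.sum_range_succ, Finset.sum_range_zero, zero_add, ← map_pow]
    refine Subtype.ext (?_ : (((ρ (g ^ 0)) (Additive.ofMul v)).toMul : G) * (ρ (g ^ 1) (Additive.ofMul v)).toMul *
      (ρ (g ^ 2) (Additive.ofMul v)).toMul * (ρ (g ^ 3) (Additive.ofMul v)).toMul * (ρ (g ^ 4) (Additive.ofMul v)).toMul *
      (ρ (g ^ 5) (Additive.ofMul v)).toMul = 1)
    simp only [hρ]
    calc _ = (v * g : G) ^ 6 * (g ^ 6)⁻¹ := by simp only [pow_succ, pow_zero]; group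
      _ = _ := by rw [e6, g6, inv_one, mul_one]
  have r := ring42 (X := ρ x) (Y := ρ y) (by rw [← map_pow, ← hx, pow_orderOf_eq_one, map_one])
    (by rw [← map_pow, ← map_mul, ← map_mul, ← e, inv_mul_cancel_right]) fun j => by
      rw [← map_pow, ← map_mul]
      exact N _ (by rw [mul_inv_rev, ← mul_assoc, mul_assoc _ y, mul_assoc (x ^ j), e]; group)
  intro v hv
  have r1 : (7 : ℕ) • ρ x (Additive.ofMul ⟨v, hv⟩) = (7 : ℕ) • Additive.ofMul ⟨v, hv⟩ := by
    simpa using DFunLike.congr_fun r (Additive.ofMul ⟨v, hv⟩)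
  have r2 := (powCoprime (G := V) (n := 7) (coprime_card_iff_not_dvd.2 n)).injective
    (a₁ := (ρ x (Additive.ofMul ⟨v, hv⟩)).toMul) (a₂ := ⟨v, hv⟩) r1
  exact mul_inv_eq_iff_eq_mul.1 (congrArg Subtype.val r2)

universe u

theorem cen_aux (n : ℕ) : ∀ {G : Type u} [Group G] [Finite G], Sp G → ∀ {K : Subgroup G} [K.Normal], Nat.card K = n → Odd n → ¬ 7 ∣ n →
    ∀ {x y : G}, orderOf x = 7 → y * x * y⁻¹ = x ^ 3 → ∀ k ∈ K, x * k = k * x := by
  induction n using Nat.strong_induction_on with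
  | _ n ih =>
  intro G _ _ h K _ cK o n7 x y hx e k hk
  have : Fact (Nat.Prime 7) := ⟨by norm_num⟩
  by_cases b : K = ⊥
  · rw [b, mem_bot] at hk
    rw [hk, mul_one, one_mul]
  obtain ⟨V, nV, V0, le, mn⟩ := Perm.exists_minimal_normal_le K b
  have dV := cK ▸ card_dvd_of_le le
  have oV := o.of_dvd_nat dV
  have V7 : ¬ 7 ∣ Nat.card V := fun c => n7 (c.trans dV)
  have sV := Agent.S0205.result (G := V) oV
  have c0 : ⁅V, V⁆ = ⊥ := (mn _ inferInstance (commutator_le_left V V)).resolve_right fun c => by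
    have := (nontrivial_iff_ne_bot V).2 V0
    have h1 := Group.IsSolvable.commutator_lt_top_of_nontrivial V
    rw [← map_subtype_lt_map_subtype, map_subtype_commutator, c, ← MonoidHom.range_eq_map, range_subtype] at h1
    exact lt_irrefl _ h1
  have cV := cen_ab h (fun a b => Subtype.ext (commutatorElement_eq_one_iff_mul_comm.1
    (mem_bot.1 (c0 ▸ commutator_mem_commutator a.2 b.2)))) oV V7 hx e
  have m : Nat.card V * Nat.card (K.map (QuotientGroup.mk' V)) = n := by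
    rw [← cK, ← relIndex_ker, QuotientGroup.ker_mk', ← Nat.card_congr (subgroupOfEquivOfLe le).toEquiv]
    exact card_mul_index _
  have := Normal.map (H := K) inferInstance _ (QuotientGroup.mk'_surjective V)
  have c1 := ih _ (by
    have := (one_lt_card_iff_ne_bot V).2 V0
    have := Nat.card_pos (α := K.map (QuotientGroup.mk' V))
    nlinarith) (h.quot V) (K := K.map (QuotientGroup.mk' V)) rfl (o.of_dvd_nat (Dvd.intro_left _ m))
    (fun c => n7 (c.trans (Dvd.intro_left _ m))) (ord_quot hx V7) (y := (y : G ⧸ V))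
    (by rw [← QuotientGroup.mk_pow, ← e]; rfl) _ (mem_map_of_mem _ hk)
  have m1 : x⁻¹ * (k * x * k⁻¹) ∈ V := by
    rw [← QuotientGroup.eq, QuotientGroup.mk_mul, QuotientGroup.mk_mul, QuotientGroup.mk_inv, eq_mul_inv_iff_mul_eq]
    exact c1
  have x7 : x ^ 7 = 1 := hx ▸ pow_orderOf_eq_one x
  have p7 : (x⁻¹ * (k * x * k⁻¹)) ^ 7 = 1 := by
    have := (show Commute x _ from cV _ m1).mul_pow 7
    rwa [mul_inv_cancel_left, conj_pow, x7, one_mul, mul_one, mul_inv_cancel, eq_comm] at this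
  have := eq_one_of_coprime_of_pow (p := 7) (k := 1) (coprime_orderOf_of_mem (coprime_card_iff_not_dvd.2 V7) m1) p7
  rw [inv_mul_eq_one, eq_mul_inv_iff_mul_eq] at this
  exact this

variable {K : Subgroup G} [K.Normal]

/-- (L1) -/
theorem exists_lift (h : Sp G) (n : ¬ 7 ∣ Nat.card K) {a b : G ⧸ K} (ha : orderOf a = 7) (e : b * a * b⁻¹ = a ^ 3) :
    ∃ x y : G, orderOf x = 7 ∧ y * x * y⁻¹ = x ^ 3 ∧ (x : G ⧸ K) = a := by
  have : Fact (Nat.Prime 7) := ⟨by norm_num⟩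
  obtain ⟨x₀, rfl⟩ := QuotientGroup.mk_surjective a
  obtain ⟨g, rfl⟩ := QuotientGroup.mk_surjective b
  have a7 : (x₀ : G ⧸ K) ^ 7 = 1 := ha ▸ pow_orderOf_eq_one _
  obtain ⟨x, ox, e1⟩ : ∃ x : G, orderOf x = 7 ∧ (x : G ⧸ K) = x₀ := by
    have e1 : ((x₀ ^ 15 : G) : G ⧸ K) = x₀ := by rw [QuotientGroup.mk_pow, pow_eq_pow_mod _ a7, pow_one]
    refine ⟨_, orderOf_eq_prime ?_ fun c => ?_, e1⟩
    · have : ∀ n ∈ W, 7 ∣ n → n ∣ 15 * 7 := by decide
      rw [← pow_mul, ← orderOf_dvd_iff_pow_eq_one]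
      exact this _ (h x₀) (ha ▸ orderOf_map_dvd (QuotientGroup.mk' K) x₀)
    · rw [← e1, c, QuotientGroup.mk_one, orderOf_one] at ha
      exact absurd ha (by decide)
  rw [← e1] at e ha a7 ⊢
  set N := zpowers x ⊔ K
  have cx : Nat.card (zpowers x) = 7 := by rw [Nat.card_zpowers, ox]
  have c1 : Nat.card ((zpowers x).subgroupOf N) = 7 :=
    (Nat.card_congr (subgroupOfEquivOfLe le_sup_left).toEquiv).trans cx
  have ni : ¬ 7 ∣ ((zpowers x).subgroupOf N).index := fun c => by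
    have d := card_sup_dvd_of_le_normalizer (H := zpowers x) (N := K) le_normalizer_of_normal
    rw [← ((zpowers x).subgroupOf N).card_mul_index, c1, cx] at d
    exact n (c.trans (Nat.dvd_of_mul_dvd_mul_left (by norm_num) d))
  have m : g * x * g⁻¹ ∈ N := by
    have : (x ^ 3)⁻¹ * (g * x * g⁻¹) ∈ K := by rw [← QuotientGroup.eq, QuotientGroup.mk_pow, ← e]; rfl
    simpa using mul_mem_sup (npow_mem_zpowers x 3) this
  have o : orderOf (⟨_, m⟩ : N) = 7 ^ 1 := by
    rw [← orderOf_coe, pow_one, ← ox]; exact (MulAut.conj g).orderOf_eq x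
  obtain ⟨Q, hQ⟩ := (IsPGroup.of_card ((Nat.card_zpowers _).trans o)).exists_le_sylow
  obtain ⟨⟨t, ht⟩, e2⟩ := MulAction.exists_smul_eq N Q ((IsPGroup.of_card (n := 1) (c1.trans (pow_one 7).symm)).toSylow ni)
  have m2 : t * (g * x * g⁻¹) * t⁻¹ ∈ zpowers x := by
    have := smul_mem_pointwise_smul _ (MulAut.conj (⟨t, ht⟩ : N)) _ (hQ (mem_zpowers _))
    rwa [← Sylow.coe_subgroup_smul, e2] at this
  obtain ⟨j, hj⟩ := m2
  obtain ⟨_, ⟨i, rfl⟩, k, hk, rfl⟩ := (mem_sup_of_normal_right).1 ht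
  refine ⟨x, x ^ i * k * g, ox, ?_, rfl⟩
  dsimp only at hj
  have e3 : (x : G ⧸ K) ^ j = (x : G ⧸ K) ^ (3 : ℤ) := by
    have := congrArg (QuotientGroup.mk' K) hj
    simp only [map_mul, map_inv, map_zpow, QuotientGroup.mk'_apply, (QuotientGroup.eq_one_iff k).2 hk, e] at this
    rw [this]; group
  rw [zpow_eq_zpow_iff_modEq, ha, ← ox, ← zpow_eq_zpow_iff_modEq] at e3
  rw [← zpow_natCast, ← show x ^ j = x ^ ((3 : ℕ) : ℤ) from e3, hj]
  group

/-- the hypotheses after (L2) -/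
structure Cn (K : Subgroup G) [K.Normal] (S : Subgroup (G ⧸ K)) : Prop where
  sp : Sp G
  exp : ∀ k ∈ K, k ^ 3 = 1
  le : ∀ s ∈ S, ∃ c ∈ centralizer (K : Set G), (c : G ⧸ K) = s

theorem exists_cn (h : Sp G) (o : Odd (Nat.card K)) (n : ¬ 7 ∣ Nat.card K) {S : Subgroup (G ⧸ K)} [S.Normal] [IsSimpleGroup S]
    {a b : G ⧸ K} (aS : a ∈ S) (ha : orderOf a = 7) (e : b * a * b⁻¹ = a ^ 3) : Cn K S := by
  obtain ⟨x, y, ox, e1, rfl⟩ := exists_lift h n ha e
  have c := cen_aux _ h rfl o n ox e1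
  refine ⟨h, fun k hk => ?_, fun s hs => ?_⟩
  · have : ∀ n ∈ W, ¬ 2 ∣ n → 7 * n ∈ W → n ∣ 3 := by decide
    have d := orderOf_dvd_natCard K hk
    exact orderOf_dvd_iff_pow_eq_one.1 (this _ (h k) (fun c => (Nat.not_even_iff_odd.2 o) (even_iff_two_dvd.2 (c.trans d)))
      (h.mul' ox rfl (c k hk) ((Nat.Prime.coprime_iff_not_dvd (by norm_num)).2 fun c => n (c.trans d))))
  · have := Normal.map (H := centralizer (K : Set G)) inferInstance _ (QuotientGroup.mk'_surjective K)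
    rcases (inferInstance : (((centralizer (K : Set G)).map (QuotientGroup.mk' K)).subgroupOf S).Normal).eq_bot_or_eq_top with t | t
    · have : (⟨_, aS⟩ : S) ∈ ((centralizer (K : Set G)).map (QuotientGroup.mk' K)).subgroupOf S :=
        ⟨x, fun k hk => (c k hk).symm, rfl⟩
      rw [t, mem_bot, Subtype.ext_iff] at this
      rw [show (x : G ⧸ K) = 1 from this, orderOf_one] at ha
      exact absurd ha (by decide)
    · exact (t.ge (mem_top (⟨s, hs⟩ : S)))

variable {S : Subgroup (G ⧸ K)}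

omit [Finite G] in
theorem Cn.dec (h : Cn K S) {g : G} (hg : (g : G ⧸ K) ∈ S) :
    ∃ c ∈ centralizer (K : Set G), (c : G ⧸ K) = g ∧ g ^ 3 = c ^ 3 := by
  obtain ⟨c, hc, e⟩ := h.le _ hg
  have m := QuotientGroup.eq.1 e
  refine ⟨c, hc, e, ?_⟩
  have := (show Commute c _ from (hc _ m).symm).mul_pow 3
  rwa [mul_inv_cancel_left, h.exp _ m, mul_one] at this

omit [Finite G] in
theorem Cn.bot (h : Cn K S) {u : G} (h8 : orderOf u = 8) (hu : (u : G ⧸ K) ∈ S) : K = ⊥ := by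
  obtain ⟨c, hc, -, e⟩ := h.dec hu
  have : u ∈ centralizer (K : Set G) := by
    have := pow_mem (pow_mem hc 3) 3
    rwa [← e, ← pow_mul, pow_eq_pow_mod _ (h8 ▸ pow_orderOf_eq_one u : u ^ 8 = 1), pow_one] at this
  refine eq_bot_iff.2 fun k hk => by_contra fun k1 => ?_
  exact absurd (h.sp.mul' (orderOf_eq_prime (h.exp k hk) k1) h8 (this k hk) (by decide)) (by decide)

omit [Finite G] in
theorem Cn.nine (h : Cn K S) {y : G} (h9 : orderOf y = 9) (hy : (y : G ⧸ K) ∈ S) (h3 : (y : G ⧸ K) ^ 3 = 1) {s : G ⧸ K} (hs : s ∈ S)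
    (e : s * y * s⁻¹ = (y : G ⧸ K)⁻¹) : False := by
  obtain ⟨c, hc, e1, e2⟩ := h.dec hy
  obtain ⟨s, sc, rfl⟩ := h.le s hs
  have m : c ^ 3 ∈ K := by rw [← QuotientGroup.eq_one_iff, QuotientGroup.mk_pow, e1, h3]
  have m1 : c⁻¹⁻¹ * (s * c * s⁻¹) ∈ K := by
    rw [← QuotientGroup.eq, QuotientGroup.mk_inv, e1, ← e, ← e1]; rfl
  have := (show Commute c⁻¹ _ from ((inv_mem hc) _ m1).symm).mul_pow 3
  rw [mul_inv_cancel_left, h.exp _ m1, mul_one, conj_pow, ← sc _ m, mul_inv_cancel_right, inv_pow, ← e2, eq_inv_iff_mul_eq_one,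
    ← pow_add] at this
  exact absurd (h9 ▸ orderOf_dvd_of_pow_eq_one this) (by decide)

omit [Finite G] in
theorem Cn.nine' (h : Cn K S) {y : G} (h9 : orderOf y = 9) {s : G ⧸ K} (hs : s ∈ S) (o : orderOf s = 2 ∨ orderOf s = 7)
    (e : y * s * (y : G ⧸ K)⁻¹ = s) : False := by
  obtain ⟨c, hc, rfl⟩ := h.le s hs
  obtain ⟨p, hp, o, m15⟩ : ∃ p, (p = 2 ∨ p = 7) ∧ orderOf (c : G ⧸ K) = p ∧ 15 % p = 1 :=
    o.elim (fun o => ⟨2, .inl rfl, o, rfl⟩) fun o => ⟨7, .inr rfl, o, rfl⟩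
  have : Fact p.Prime := ⟨by rcases hp with rfl | rfl <;> norm_num⟩
  have cp : (c : G ⧸ K) ^ p = 1 := o ▸ pow_orderOf_eq_one _
  have e1 : ((c ^ 15 : G) : G ⧸ K) = c := by rw [QuotientGroup.mk_pow, pow_eq_pow_mod _ cp, m15, pow_one]
  have p1 : (c ^ 15) ^ p = 1 := by
    have := h.exp (c ^ p) (by rw [← QuotientGroup.eq_one_iff, QuotientGroup.mk_pow, cp])
    rw [← pow_mul, show 15 * p = p * 3 * 5 by ring, pow_mul, pow_mul, this, one_pow]
  have od : orderOf (c ^ 15) = p := orderOf_eq_prime p1 fun k => by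
    rw [← e1, k, QuotientGroup.mk_one, orderOf_one] at o
    omega
  have dc := pow_mem hc 15
  generalize c ^ 15 = d at *
  have m1 : d⁻¹ * (y * d * y⁻¹) ∈ K := by rw [← QuotientGroup.eq, e1, ← e, ← e1]; rfl
  have := (show Commute d _ from (dc _ m1).symm).mul_pow p
  rw [mul_inv_cancel_left, conj_pow, p1, one_mul, mul_one, mul_inv_cancel, eq_comm] at this
  have e2 : d⁻¹ * (y * d * y⁻¹) = 1 := by
    have h1 := Nat.dvd_gcd (orderOf_dvd_of_pow_eq_one this) (orderOf_dvd_of_pow_eq_one (h.exp _ m1))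
    rcases hp with rfl | rfl <;> simpa using h1
  rw [inv_mul_eq_one, eq_mul_inv_iff_mul_eq] at e2
  have := h.sp.mul' od h9 e2 (by rcases hp with rfl | rfl <;> decide)
  rcases hp with rfl | rfl <;> exact absurd this (by decide)

/-- an element whose square is trivial on `P` and which has no fixed points inverts `P` -/
theorem inv_of_fpf {P : Subgroup G} {g : G} (n : ∀ v ∈ P, g * v * g⁻¹ ∈ P) (s : ∀ v ∈ P, g ^ 2 * v = v * g ^ 2)
    (f : ∀ v ∈ P, g * v = v * g → v = 1) : ∀ v ∈ P, g * v * g⁻¹ = v⁻¹ := fun v hv => by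
  let φ : P →* P := ((MulAut.conj g).toMonoidHom.comp P.subtype).codRestrict P fun v => n v v.2
  have := MonoidHom.FixedPointFree.coe_eq_inv_of_involutive (φ := φ)
    (fun v e => Subtype.ext (f v v.2 (mul_inv_eq_iff_eq_mul.1 (congrArg Subtype.val e)))) fun v => Subtype.ext (by
      change g * (g * v * g⁻¹) * g⁻¹ = v
      calc _ = g ^ 2 * v * (g ^ 2)⁻¹ := by simp only [sq]; group
        _ = _ := by rw [s v v.2, mul_inv_cancel_right])
  exact congrArg Subtype.val (congrFun this ⟨v, hv⟩)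

theorem c4_aux {P : Subgroup G} {a b : G} (na : a ∈ normalizer (P : Set G)) (nb : b ∈ normalizer (P : Set G)) (c : Commute a b)
    (a4 : a ^ 4 = 1) (b4 : b ^ 4 = 1) (a2 : a ^ 2 ≠ 1) (b2 : b ^ 2 ≠ 1) (ab : a ^ 2 * b ^ 2 ≠ 1)
    (f : ∀ g, g ^ 4 = 1 → g ^ 2 ≠ 1 → ∀ v ∈ P, g * v = v * g → v = 1) : P ⊓ centralizer {a ^ 2} = ⊥ := by
  have nm : ∀ g ∈ normalizer (P : Set G), Commute g a → ∀ v ∈ P ⊓ centralizer {a ^ 2}, g * v * g⁻¹ ∈ P ⊓ centralizer {a ^ 2} :=
    fun g hg cg v hv => ⟨(hg v).1 hv.1, by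
      have := mem_centralizer_singleton_iff.2 (cg.pow_right 2).eq
      exact Subgroup.mul_mem _ (Subgroup.mul_mem _ this hv.2) (Subgroup.inv_mem _ this)⟩
  have e2 : (a * b ^ 2) ^ 2 = a ^ 2 := by rw [(c.pow_right 2).mul_pow, ← pow_mul, b4, mul_one]
  have i1 := inv_of_fpf (nm a na (Commute.refl a)) (fun v hv => (mem_centralizer_singleton_iff.1 hv.2).symm)
    fun v hv => f a a4 a2 v hv.1
  have i2 := inv_of_fpf (nm _ (mul_mem na (pow_mem nb 2)) ((Commute.refl a).mul_left (c.symm.pow_left 2)))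
    (fun v hv => e2 ▸ (mem_centralizer_singleton_iff.1 hv.2).symm)
    fun v hv => f _ (by rw [show 4 = 2 * 2 from rfl, pow_mul, e2, ← pow_mul, a4]) (e2 ▸ a2) v hv.1
  have i3 := inv_of_fpf (nm b nb c.symm) (fun v hv => by
    have := (i2 v hv).trans (i1 v hv).symm
    rw [mul_inv_rev, ← mul_assoc, mul_left_inj, mul_assoc a, mul_assoc a, mul_right_inj] at this
    exact mul_inv_eq_iff_eq_mul.1 this) fun v hv => f b b4 b2 v hv.1
  refine eq_bot_iff.2 fun v hv => f (a * b) (by rw [c.mul_pow, a4, b4, one_mul]) (by rwa [c.mul_pow]) v hv.1 ?_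
  rw [← mul_inv_eq_iff_eq_mul]
  calc _ = a * (b * v * b⁻¹) * a⁻¹ := by group
    _ = _ := by rw [i3 v hv, i1 _ (inv_mem hv), inv_inv]

/-- `C₄ × C₄` has an element of order four with a fixed point -/
theorem c4_fix {P : Subgroup G} (o : Odd (Nat.card P)) {a b : G} (na : a ∈ normalizer (P : Set G)) (nb : b ∈ normalizer (P : Set G))
    (c : Commute a b) (a4 : a ^ 4 = 1) (b4 : b ^ 4 = 1) (a2 : a ^ 2 ≠ 1) (b2 : b ^ 2 ≠ 1) (ab : a ^ 2 * b ^ 2 ≠ 1)
    (f : ∀ g, g ^ 4 = 1 → g ^ 2 ≠ 1 → ∀ v ∈ P, g * v = v * g → v = 1) : P = ⊥ := by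
  have aa : a ^ 2 * a ^ 2 = 1 := by rw [← pow_add, a4]
  have bb : b ^ 2 * b ^ 2 = 1 := by rw [← pow_add, b4]
  have c2 := (c.pow_pow 2 2).eq
  have k1 := c4_aux na nb c a4 b4 a2 b2 ab f
  have k2 := c4_aux nb na c.symm b4 a4 b2 a2 (c2 ▸ ab) f
  have k3 := c4_aux (mul_mem na nb) nb (c.mul_left (Commute.refl b)) (by rw [c.mul_pow, a4, b4, one_mul]) b4 (by rwa [c.mul_pow]) b2
    (by rwa [c.mul_pow, mul_assoc, bb, mul_one]) f
  rw [c.mul_pow] at k3
  generalize hs : a ^ 2 = s at *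
  generalize ht : b ^ 2 = t at *
  let Z : Subgroup G :=
    { carrier := {1, s, t, s * t}
      one_mem' := by simp
      mul_mem' := by
        have e1 : ∀ w, s * (s * w) = w := fun w => by rw [← mul_assoc, aa, one_mul]
        have e2 : ∀ w, t * (s * w) = s * (t * w) := fun w => by rw [← mul_assoc, ← c2, mul_assoc]
        rintro _ _ (rfl | rfl | rfl | rfl) (rfl | rfl | rfl | rfl) <;> simp [aa, bb, mul_assoc, e1, e2, ← c2]
      inv_mem' := by
        rintro _ (rfl | rfl | rfl | rfl) <;> simp [inv_eq_of_mul_eq_one_right aa, inv_eq_of_mul_eq_one_right bb, ← c2] }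
  have sq : ∀ z ∈ Z, z ^ 2 = 1 := by
    rintro _ (rfl | rfl | rfl | rfl)
    exacts [one_pow 2, (pow_two _).trans aa, (pow_two _).trans bb, by rw [(show Commute s t from c2).mul_pow, pow_two, pow_two, aa, bb, one_mul]]
  have : IsMulCommutative Z := ⟨⟨fun x y => Subtype.ext (by
    have := fun z (hz : z ∈ Z) => inv_eq_of_mul_eq_one_right ((pow_two z).symm.trans (sq z hz))
    rw [coe_mul, coe_mul, ← this _ (mul_mem x.2 y.2), mul_inv_rev, this _ x.2, this _ y.2])⟩⟩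
  obtain ⟨j, hj⟩ := (show IsPGroup 2 Z from fun z => ⟨1, Subtype.ext (by simpa using sq z z.2)⟩).exists_card_eq
  have := Agent.S0058.result Z P (fun cy => by
      obtain ⟨g, hg⟩ := cy.exists_generator
      have k : ∀ z : Z, z = 1 ∨ z = g := fun z => by
        obtain ⟨n, rfl⟩ := (mem_powers_iff_mem_zpowers.2 (hg z))
        have g2 : g ^ 2 = 1 := Subtype.ext (by simpa using sq g g.2)
        change g ^ n = 1 ∨ g ^ n = g
        rw [pow_eq_pow_mod _ g2]
        rcases Nat.mod_two_eq_zero_or_one n with e | e <;> simp [e]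
      have e1 := (k ⟨s, by simp [Z]⟩).resolve_left fun e => a2 (congrArg Subtype.val e)
      have e2 := (k ⟨t, by simp [Z]⟩).resolve_left fun e => b2 (congrArg Subtype.val e)
      exact ab (by rw [show t = s from congrArg Subtype.val (e2.trans e1.symm), aa]))
    (by
      rintro _ (rfl | rfl | rfl | rfl)
      exacts [one_mem _, hs ▸ pow_mem na 2, ht ▸ pow_mem nb 2, mul_mem (hs ▸ pow_mem na 2) (ht ▸ pow_mem nb 2)])
    (hj ▸ Nat.Coprime.pow_left j (Nat.coprime_two_left.2 o))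
  refine this.symm.trans (eq_bot_iff.2 (iSup₂_le ?_))
  rintro _ ⟨rfl | rfl | rfl | rfl, n⟩
  exacts [absurd rfl n, k1.le, k2.le, k3.le]

theorem not_five (h : Sp G) (o : Odd (Nat.card K)) {a b : G ⧸ K} (c : a * b = b * a) (a4 : a ^ 4 = 1) (b4 : b ^ 4 = 1) (a2 : a ^ 2 ≠ 1)
    (b2 : b ^ 2 ≠ 1) (ab : a ^ 2 * b ^ 2 ≠ 1) : ¬ 5 ∣ Nat.card K := fun h5 => by
  have : Fact (Nat.Prime 5) := ⟨by norm_num⟩
  have pa : ∀ {a : G ⧸ K}, a ^ 4 = 1 → IsPGroup 2 (zpowers a) := fun e => by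
    rintro ⟨_, n, rfl⟩
    exact ⟨2, Subtype.ext (by
      change (_ ^ n) ^ 4 = 1
      rw [← zpow_natCast, ← zpow_mul, mul_comm, zpow_mul, zpow_natCast, e, one_zpow])⟩
  obtain ⟨Q, hQ⟩ := ((pa a4).to_sup_of_normal_right' (pa b4) ((zpowers_le.2 (mem_centralizer_iff.2 (by
    rintro _ ⟨n, rfl⟩
    exact (Commute.zpow_left c.symm n).eq))).trans (centralizer_le_normalizer _))).exists_le_sylow
  obtain ⟨T, rfl⟩ := Sylow.mapSurjective_surjective (QuotientGroup.mk'_surjective K) 2 Q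
  obtain ⟨a, aT, rfl⟩ := hQ (mem_sup_left (mem_zpowers a))
  obtain ⟨b, bT, rfl⟩ := hQ (mem_sup_right (mem_zpowers b))
  have inj : ∀ t ∈ (T : Subgroup G), QuotientGroup.mk' K t = 1 → t = 1 := fun t ht e =>
    (inf_eq_bot_of_isPGroup_of_coprime T.isPGroup' (Nat.coprime_two_right.2 o)).le ⟨ht, (QuotientGroup.eq_one_iff t).1 e⟩
  let := MulAction.compHom (Sylow 5 K) ((MulAut.conjNormal : G →* MulAut K).comp (T : Subgroup G).subtype)
  obtain ⟨P, hP⟩ := T.isPGroup'.nonempty_fixed_point_of_prime_not_dvd_card (Sylow 5 K) fun d => by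
    obtain ⟨P⟩ : Nonempty (Sylow 5 K) := inferInstance
    exact (Nat.not_even_iff_odd.2 o) (even_iff_two_dvd.2 ((d.trans P.card_dvd_index).trans (index_dvd_card _)))
  have nm : ∀ t ∈ (T : Subgroup G), t ∈ normalizer ((P : Subgroup K).map K.subtype : Set G) := fun t ht => by
    have e : (P : Subgroup K).map (MulAut.conjNormal t : MulAut K).toMonoidHom = P := congrArg Sylow.toSubgroup (hP ⟨t, ht⟩)
    rw [mem_normalizer_iff_map_conj_eq]
    conv_rhs => rw [← e]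
    rw [map_map, map_map]; rfl
  have p5 := P.isPGroup'.map K.subtype
  obtain ⟨j, hj⟩ := p5.exists_card_eq
  have := c4_fix (hj ▸ Odd.pow (by decide)) (nm a aT) (nm b bT)
    (commutatorElement_eq_one_iff_commute.1 (inj _ (mul_mem (mul_mem (mul_mem aT bT) (inv_mem aT)) (inv_mem bT) : ⁅a, b⁆ ∈ _) (by
      rw [map_commutatorElement, commutatorElement_eq_one_iff_mul_comm, c])))
    (inj _ (pow_mem aT 4) (by rw [map_pow, a4])) (inj _ (pow_mem bT 4) (by rw [map_pow, b4]))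
    (fun e => a2 (by rw [← map_pow, e, map_one])) (fun e => b2 (by rw [← map_pow, e, map_one]))
    (fun e => ab (by rw [← map_pow, ← map_pow, ← map_mul, e, map_one])) fun g g4 g2 v hv e => by
      obtain ⟨i, hi⟩ := p5.exists_orderOf_eq_pow ⟨v, hv⟩
      rw [← orderOf_coe] at hi
      rcases i with _ | i
      · exact orderOf_eq_one_iff.1 hi
      have := h.mul' (orderOf_eq_prime_pow (p := 2) (n := 1) g2 g4) hi e (Nat.Coprime.pow _ _ (by decide))
      exact absurd (W_dvd this (Nat.mul_dvd_mul_left _ (dvd_pow_self 5 i.succ_ne_zero))) (by decide)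
  rw [Subgroup.map_eq_bot_iff_of_injective _ K.subtype_injective] at this
  have h1 := P.not_dvd_index
  rw [this, index_bot] at h1
  exact h1 h5

end CL.A10S
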