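import Cfsg.Agent.REC.A10S.Defs
import Cfsg.Agent.SIG.PBase
import Cfsg.Agent.FGS.Homog2
import Cfsg.Agent.REC.Basic
import Cfsg.Agent.SOLV.PGroupCyclicSCN
import Cfsg.Agent.S1008
import Cfsg.Agent.S0721
import Cfsg.Agent.S0058
import Cfsg.Agent.S0205

/-! Groups with the element orders of `A₁₀` and Sylow 2-subgroups of order 128: the reduction to an almost simple group. -/

set_option autoImplicit false

namespace CL.A10S

open Subgroup Cfsg CL.PComp

variable {G : Type*} [Group G]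

theorem Sp.dvd (h : Sp G) {g : G} {n : ℕ} (e : orderOf g = n) : n ∈ W := e ▸ h g

theorem Sp.mul' (h : Sp G) {a b : G} {m n : ℕ} (ha : orderOf a = m) (hb : orderOf b = n) (c : a * b = b * a)
    (co : m.Coprime n) : m * n ∈ W := h.mul c ha hb co

theorem Sp.n14 (h : Sp G) {a b : G} (ha : orderOf a = 7) (hb : b * b = 1) (c : a * b = b * a) : b = 1 := by
  by_contra b1
  exact absurd (h.mul' ha (orderOf_eq_prime (p := 2) (by rw [sq, hb]) b1) c (by decide)) (by decide)

variable [Finite G]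

/-- an element of order `p` without fixed points -/
theorem card_modEq {p : ℕ} [Fact p.Prime] {x : G} (hx : orderOf x = p) {E : Subgroup G}
    (hn : x ∈ normalizer (E : Set G)) (h : ∀ e ∈ E, x * e = e * x → e = 1) : Nat.card E ≡ 1 [MOD p] := by
  let φ : zpowers x →* MulAut E := E.normalizerMonoidHom.comp (inclusion (zpowers_le.2 hn))
  let := MulAction.compHom E φ
  have hp : IsPGroup p (zpowers x) := IsPGroup.of_card (n := 1) (by rw [Nat.card_zpowers, hx, pow_one])
  have e : MulAction.fixedPoints (zpowers x) E = {1} := by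
    ext e
    refine ⟨fun k => Subtype.ext (h e e.2 ?_), fun k g => ?_⟩
    · have : x * e * x⁻¹ = e := congrArg Subtype.val (k ⟨x, mem_zpowers x⟩)
      rw [← mul_inv_eq_iff_eq_mul, this]
    · rw [Set.mem_singleton_iff.1 k]; exact map_one (φ g)
  simpa [e] using hp.card_modEq_card_fixedPoints E

theorem Sp.card_two (h : Sp G) {x : G} (hx : orderOf x = 7) {E : Subgroup G} (hn : x ∈ normalizer (E : Set G))
    {k : ℕ} (hE : Nat.card E = 2 ^ k) (k0 : E ≠ ⊥) (k7 : k ≤ 7) : k = 3 ∨ k = 6 := by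
  have : Fact (Nat.Prime 7) := ⟨by norm_num⟩
  have h1 := card_modEq hx hn fun e he c => by
    by_contra e1
    obtain ⟨j, hj⟩ := (IsPGroup.of_card hE).exists_orderOf_eq_pow ⟨e, he⟩
    rw [← orderOf_coe] at hj
    rcases j with _ | j
    · exact e1 (orderOf_eq_one_iff.1 hj)
    have h2 : e ^ 2 ^ j = 1 := h.n14 hx (by rw [← pow_add, ← two_mul, ← pow_succ', ← hj]; exact pow_orderOf_eq_one _)
      (Commute.pow_right c _)
    have := Nat.le_of_dvd (by positivity) (orderOf_dvd_of_pow_eq_one h2)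
    change orderOf e = _ at hj
    rw [hj, pow_succ] at this
    have : 0 < 2 ^ j := by positivity
    omega
  have h0 : k ≠ 0 := fun e => k0 (by rw [← card_eq_one, hE, e, pow_zero])
  rw [hE] at h1
  interval_cases k <;> simp_all [Nat.ModEq]

theorem top_168 {A : Type*} [Group A] [Finite A] [IsSimpleGroup A] (h : Nat.card A = 168) {I : Subgroup A}
    (hI : 14 ∣ Nat.card I) : I = ⊤ := by
  by_contra n
  obtain ⟨M, hM, le⟩ := (eq_top_or_exists_le_coatom I).resolve_left n
  have h1 := hI.trans (card_dvd_of_le le)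
  rcases (Agent.S1008.result h).1 M hM with ⟨⟨e⟩⟩ | ⟨e, -⟩
  · rw [Nat.card_congr e.toEquiv, Nat.card_perm] at h1
    simp [Nat.factorial] at h1
  · rw [e] at h1
    exact absurd h1 (by decide)

theorem aut8 {V : Type*} [Group V] [Finite V] (hW : Nat.card V = 2 ^ 3) (c : ∀ a b : V, a * b = b * a)
    (e : ∀ a : V, a ^ 2 = 1) : IsSimpleGroup (MulAut V) ∧ Nat.card (MulAut V) = 168 := by
  obtain ⟨n, h1, ⟨f⟩⟩ := CL.Homog.exists_autGL (p := 2) c e
  obtain rfl : n = 3 := Nat.pow_right_injective le_rfl (h1.symm.trans hW)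
  have hc : Nat.card (GL (Fin 3) (ZMod 2)) = 168 := by
    rw [Matrix.card_GL_field]; simp [Fin.prod_univ_three]
  have := CL.Rec.simple_sl32
  have := (MulEquiv.ofBijective (Matrix.SpecialLinearGroup.toGL (n := Fin 3) (R := ZMod 2))
    (Matrix.SpecialLinearGroup.toGL_injective.bijective_of_nat_card_le
      (by rw [hc, CL.Rec.card_sl32]))).symm.isSimpleGroup
  exact ⟨f.isSimpleGroup, (Nat.card_congr f.toEquiv).trans hc⟩

/-- the central involutions -/
def om (E : Subgroup G) : Subgroup G where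
  carrier := {w | w ∈ E ∧ w * w = 1 ∧ ∀ e ∈ E, e * w = w * e}
  one_mem' := ⟨one_mem _, mul_one _, fun e _ => by simp⟩
  mul_mem' := fun {a b} ha hb => ⟨mul_mem ha.1 hb.1, by
    rw [mul_assoc, ← mul_assoc b, ha.2.2 b hb.1, mul_assoc, hb.2.1, mul_one, ha.2.1], fun e he => by
    rw [← mul_assoc, ha.2.2 e he, mul_assoc, hb.2.2 e he, mul_assoc]⟩
  inv_mem' := fun {a} ha => by rwa [inv_eq_of_mul_eq_one_right ha.2.1]

omit [Finite G] in
theorem nz_om (E : Subgroup G) : normalizer (E : Set G) ≤ normalizer (om E : Set G) := by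
  have k : ∀ g ∈ normalizer (E : Set G), ∀ w ∈ om E, g * w * g⁻¹ ∈ om E := fun g hg w hw =>
    ⟨(hg w).1 hw.1, by rw [conj_mul, hw.2.1]; group, fun e he => by
      have := hw.2.2 _ ((inv_mem hg e).1 he)
      calc _ = g * (g⁻¹ * e * g⁻¹⁻¹ * w) * g⁻¹ := by group
        _ = _ := by rw [this]; group⟩
  intro g hg w
  exact ⟨k g hg w, fun h => by simpa [mul_assoc] using k _ (inv_mem hg) _ h⟩

theorem om_ne {E : Subgroup G} (hE : IsPGroup 2 E) (n : E ≠ ⊥) : om E ≠ ⊥ := by
  have := (nontrivial_iff_ne_bot E).2 n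
  have := hE.center_nontrivial
  obtain ⟨k, k0, hk⟩ := (hE.to_subgroup (center E)).nontrivial_iff_card.1 inferInstance
  obtain ⟨z, hz⟩ := exists_prime_orderOf_dvd_card' (G := center E) 2 (hk ▸ dvd_pow_self 2 k0.ne')
  intro e
  have : z.1.1 ∈ om E := ⟨z.1.2, by
    have := pow_orderOf_eq_one z
    rw [hz, sq] at this
    exact congrArg (fun y : center E => y.1.1) this, fun e he => congrArg Subtype.val (mem_center_iff.1 z.2 ⟨e, he⟩)⟩
  rw [e, mem_bot] at this
  rw [show z = 1 from Subtype.ext (Subtype.ext this), orderOf_one] at hz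
  omega

omit [Finite G] in
theorem index_dvd {M K : Subgroup G} [K.Normal] (h : M ⊔ K = ⊤) : K.index = K.relIndex M := by
  rw [← relIndex_sup_right, h, relIndex_top_right]

/-- (A) -/
theorem odd_core (h : Sp G) {u : G} (h8 : orderOf u = 8) (h7 : 7 ∣ Nat.card G) (h1 : 128 ∣ Nat.card G)
    (h2 : ¬ 256 ∣ Nat.card G) : Odd (Nat.card (pPrimeCore 7 G)) := by
  have : Fact (Nat.Prime 7) := ⟨by norm_num⟩
  set K := pPrimeCore 7 G with hK
  have n7 : ¬ 7 ∣ Nat.card K := PComp.not_dvd_card_pPrimeCore 7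
  by_contra ev
  obtain ⟨P⟩ : Nonempty (Sylow 2 K) := inferInstance
  set E := (P : Subgroup K).map K.subtype with hE
  obtain ⟨k, hk⟩ := P.isPGroup'.exists_card_eq
  have cE : Nat.card E = 2 ^ k := (card_map_of_injective K.subtype_injective).trans hk
  have pE : IsPGroup 2 E := IsPGroup.of_card cE
  have iP := P.not_dvd_index
  have mP := (P : Subgroup K).card_mul_index
  have mK := K.card_mul_index
  have nE : E ≠ ⊥ := fun e => by
    rw [e, card_bot] at cE
    rw [hk, ← cE, one_mul] at mP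
    exact iP (mP ▸ even_iff_two_dvd.1 (Nat.not_odd_iff_even.1 ev))
  have fr : normalizer (E : Set G) ⊔ K = ⊤ := P.normalizer_sup_eq_top
  set M := normalizer (E : Set G)
  have i7 : 7 ∣ K.index := ((Nat.Prime.dvd_mul (by norm_num)).1 (mK ▸ h7)).resolve_left n7
  have iM := index_dvd fr
  obtain ⟨x, hx⟩ := exists_prime_orderOf_dvd_card' (G := M) 7 (i7.trans (iM ▸ relIndex_dvd_card K M))
  have ox : orderOf (x : G) = 7 := by rw [orderOf_coe, hx]
  have k7 : k ≤ 7 := by
    by_contra c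
    exact h2 ((pow_dvd_pow 2 (show 8 ≤ k by omega)).trans (cE ▸ card_subgroup_dvd_card E))
  have WE : om E ≤ E := fun _ hw => hw.1
  obtain ⟨j, hj⟩ := (pE.to_le WE).exists_card_eq
  have jk : j ≤ k := (Nat.pow_dvd_pow_iff_le_right (by norm_num)).1 (hj ▸ cE ▸ card_dvd_of_le WE)
  have k36 := h.card_two ox x.2 cE nE k7
  have j36 := h.card_two ox (nz_om E x.2) hj (om_ne pE nE) (jk.trans k7)
  rw [← mK, ← mP, hk] at h1 h2
  obtain ⟨m, hm⟩ : Odd (P : Subgroup K).index := Nat.odd_iff.2 (Nat.two_dvd_ne_zero.1 iP)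
  have co : ∀ i, (2 ^ i).Coprime (P : Subgroup K).index := fun i =>
    Nat.Coprime.pow_left i ((Nat.Prime.coprime_iff_not_dvd Nat.prime_two).2 iP)
  have six : k = 6 → 2 ∣ K.index ∧ ¬ 4 ∣ K.index := by
    rintro rfl
    refine ⟨(co 1).dvd_of_dvd_mul_left (Nat.dvd_of_mul_dvd_mul_left (k := 2 ^ 6) (by norm_num) (by rwa [← mul_assoc])),
      fun c => h2 ?_⟩
    rw [mul_right_comm]
    exact (Nat.mul_dvd_mul_left (2 ^ 6) c).mul_right _
  rcases j36 with rfl | rfl
  · obtain ⟨s, c168⟩ := aut8 hj (fun a b => Subtype.ext (b.2.2.2 a a.2.1)) fun a => Subtype.ext (by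
      simpa [sq] using a.2.2.1)
    let φ : M →* MulAut (om E) := (om E).normalizerMonoidHom.comp (inclusion (nz_om E))
    have ker : ∀ y : M, φ y = 1 → ∀ w ∈ om E, y * w = w * y := fun y hy w hw => by
      have : y * w * (y : G)⁻¹ = w := congrArg (fun f : MulAut (om E) => (f ⟨w, hw⟩ : G)) hy
      rw [← mul_inv_eq_iff_eq_mul, this]
    have c7 : (Nat.card (φ.ker.map M.subtype)).Coprime 7 := coprime_card_of_forall fun y hy oy => by
      obtain ⟨y, hy, rfl⟩ := hy
      refine om_ne pE nE (eq_bot_iff.2 fun w hw => h.n14 oy hw.2.1 (ker y hy w hw))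
    have nC : M ≤ normalizer (φ.ker.map M.subtype : Set G) := le_normalizer_of_normal_subgroupOf (map_subtype_le _) (hK := by
      rw [subgroupOf, comap_map_eq_self_of_injective M.subtype_injective]; infer_instance)
    have : (φ.ker.map M.subtype ⊔ K).Normal := by
      rw [← normalizer_eq_top_iff, eq_top_iff, ← fr]
      exact sup_le (le_trans (le_inf nC le_normalizer_of_normal) (normalizer_inf_normalizer_le_normalizer_sup _ _))
        (le_sup_right.trans le_normalizer)
    have CK : φ.ker ≤ K.subgroupOf M := fun y hy =>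
      (le_sup_left.trans (le_pPrimeCore (coprime_card_sup le_normalizer_of_normal c7 (pPrimeCore_coprime 7))))
        (mem_map_of_mem M.subtype hy)
    have d : K.index ∣ Nat.card φ.range := by
      rw [iM, ← index_ker]; exact index_dvd_of_le CK
    have d' := card_subgroup_dvd_card φ.range
    rw [c168] at d'
    rcases k36 with rfl | rfl
    · have : 2 ^ 4 ∣ K.index :=
        (co 4).dvd_of_dvd_mul_left (Nat.dvd_of_mul_dvd_mul_left (k := 2 ^ 3) (by norm_num) (by rwa [← mul_assoc]))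
      exact absurd (this.trans (d.trans d')) (by decide)
    obtain ⟨a, b⟩ := six rfl
    have t : φ.range = ⊤ := top_168 c168 ((Nat.Coprime.mul_dvd_of_dvd_of_dvd (by decide) a i7).trans d)
    rcases (Normal.map (H := K.subgroupOf M) inferInstance φ (MonoidHom.range_eq_top.1 t)).eq_bot_or_eq_top with e | e
    · refine b (Dvd.dvd.trans ?_ ((index_dvd_of_le ((Subgroup.map_eq_bot_iff _).1 e)).trans iM.symm.dvd))
      rw [index_ker, t, card_top, c168]; decide
    · obtain ⟨y, hy, e⟩ : φ x ∈ (K.subgroupOf M).map φ := e ▸ mem_top _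
      have : y⁻¹ * x ∈ K.subgroupOf M := CK (by rw [MonoidHom.mem_ker, map_mul, map_inv, e, inv_mul_cancel])
      exact n7 (ox ▸ orderOf_dvd_natCard K (by simpa using mul_mem hy this : x ∈ K.subgroupOf M))
  · obtain rfl : k = 6 := by omega
    have e : om E = E := eq_of_le_of_card_ge WE (by rw [hj, cE])
    obtain ⟨a, b⟩ := six rfl
    have u2 : u ^ 2 ∈ K := by
      have d1 : orderOf (u : G ⧸ K) ∣ 2 ^ 3 := (orderOf_map_dvd (QuotientGroup.mk' K) u).trans (by rw [h8]; rfl)
      obtain ⟨i, -, hi⟩ := (Nat.dvd_prime_pow Nat.prime_two).1 d1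
      have i2 : i ≤ 1 := by
        by_contra c
        exact b ((pow_dvd_pow 2 (show 2 ≤ i by omega)).trans (hi ▸ orderOf_dvd_natCard _))
      rw [← QuotientGroup.eq_one_iff, QuotientGroup.mk_pow, ← orderOf_dvd_iff_pow_eq_one, hi]
      exact pow_dvd_pow 2 i2
    have o4 : orderOf (⟨u ^ 2, u2⟩ : K) = 2 ^ 2 := by
      rw [← orderOf_coe, orderOf_pow' _ (by norm_num), h8]; rfl
    obtain ⟨Q, hQ⟩ := (IsPGroup.of_card ((Nat.card_zpowers _).trans o4)).exists_le_sylow
    set v := Q.equiv P ⟨_, hQ (mem_zpowers _)⟩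
    have ov : orderOf v = 2 ^ 2 := by rw [MulEquiv.orderOf_eq, ← orderOf_coe, o4]
    have : v ^ 2 = 1 := Subtype.ext (Subtype.ext (by
      simpa [sq] using (e.ge (mem_map_of_mem K.subtype v.2)).2.1))
    exact absurd (ov ▸ orderOf_dvd_of_pow_eq_one this) (by decide)

/-- a group with a nontrivial fixed-point-free action of its involutions on a normal subgroup of odd order -/
theorem Sp.exists_fix (h : Sp G) (h1 : 128 ∣ Nat.card G) {N : Subgroup G} [N.Normal] (n : N ≠ ⊥) (o : ¬ 2 ∣ Nat.card N) :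
    ∃ t v : G, orderOf t = 2 ∧ v ∈ N ∧ v ≠ 1 ∧ v * t = t * v := by
  by_contra! k
  obtain ⟨R, hR⟩ := Sylow.exists_subgroup_card_pow_prime 2 (n := 7) h1
  have pR := IsPGroup.of_card hR
  have cy : ∀ A : Subgroup R, IsMulCommutative A → IsCyclic A := fun A cA => by
    by_contra nc
    let e := A.equivMapOfInjective R.subtype R.subtype_injective
    have pA : IsPGroup 2 (A.map R.subtype) := (pR.to_subgroup A).map _
    obtain ⟨j, hj⟩ := pA.exists_card_eq
    have := Agent.S0058.result (A.map R.subtype) N (fun c => nc (isCyclic_of_surjective e.symm e.symm.surjective))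
      le_normalizer_of_normal (hj ▸ Nat.Coprime.pow_left j ((Nat.Prime.coprime_iff_not_dvd Nat.prime_two).2 o))
    refine n (this.symm.trans (eq_bot_iff.2 (iSup₂_le fun a ha v hv => ?_)))
    obtain ⟨i, hi⟩ := pA.exists_orderOf_eq_pow ⟨a, ha.1⟩
    rw [← orderOf_coe] at hi
    change orderOf a = _ at hi
    rcases i with _ | i
    · exact absurd (orderOf_eq_one_iff.1 hi) ha.2
    by_contra v1
    refine k (a ^ 2 ^ i) v ?_ hv.1 v1 (Commute.pow_right (mem_centralizer_singleton_iff.1 hv.2) _)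
    rw [orderOf_pow' _ (by positivity), hi, Nat.gcd_eq_right (pow_dvd_pow 2 i.le_succ), pow_succ', Nat.mul_div_cancel _ (by positivity)]
  rcases PCyc.isCyclic_or_quaternion_of_abelian_cyclic pR cy with c | ⟨-, m, ⟨e⟩⟩
  · obtain ⟨g, hg⟩ := IsCyclic.exists_ofOrder_eq_natCard (α := R)
    exact absurd ((h.sub R).dvd (hg.trans hR)) (by decide)
  · have h3 := Nat.card_congr e.toEquiv
    rw [hR, Nat.card_eq_fintype_card, QuaternionGroup.card] at h3
    have h4 := (h.sub R).dvd ((e.symm.orderOf_eq _).trans QuaternionGroup.orderOf_a_one)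
    rw [show 2 * 2 ^ (m + 1) = 64 by omega] at h4
    exact absurd h4 (by decide)

/-- (B) -/
theorem exists_soc (h : Sp G) (h7 : 7 ∣ Nat.card G) (h1 : 128 ∣ Nat.card G) (h0 : pPrimeCore 7 G = ⊥) :
    ∃ S : Subgroup G, S.Normal ∧ IsSimpleGroup S ∧ ¬ IsMulCommutative S ∧ 7 ∣ Nat.card S ∧
      centralizer (S : Set G) = ⊥ := by
  have : Fact (Nat.Prime 7) := ⟨by norm_num⟩
  have sev : ∀ N : Subgroup G, N.Normal → N ≠ ⊥ → 7 ∣ Nat.card N := fun N _ n => by
    by_contra c
    exact n (eq_bot_iff.2 (h0 ▸ le_pPrimeCore (coprime_card_iff_not_dvd.2 c)))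
  obtain ⟨N, nN, n, -, mn⟩ := Perm.exists_minimal_normal_le (⊤ : Subgroup G) fun e => by
    rw [← card_top, e, card_bot] at h7
    exact absurd h7 (by decide)
  obtain ⟨T, _, m, sT, m0, ⟨e⟩⟩ := Agent.S0721.result N n mn
  have cN : Nat.card N = Nat.card T ^ m := by rw [Nat.card_congr e.toEquiv, Nat.card_fun, Nat.card_eq_fintype_card (α := Fin m), Fintype.card_fin]
  have : Finite T := Nat.finite_of_card_ne_zero fun c => by
    rw [c, zero_pow m0.ne'] at cN
    exact Nat.card_pos.ne' cN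
  have T7 : 7 ∣ Nat.card T := Nat.Prime.dvd_of_dvd_pow (by norm_num) (cN ▸ sev N nN n)
  have T2 : 2 ∣ Nat.card T := by
    by_contra c
    have cm := IsSimpleGroup.comm_iff_isSolvable.2 (Agent.S0205.result (G := T) (Nat.odd_iff.2 (Nat.two_dvd_ne_zero.1 c)))
    let : CommGroup T := { (inferInstance : Group T) with mul_comm := cm }
    have e7 : Nat.card T = 7 := ((Nat.prime_dvd_prime_iff_eq (by norm_num) IsSimpleGroup.prime_card).1 T7).symm
    obtain ⟨t, v, ot, hv, v1, c⟩ := h.exists_fix h1 n fun d => c (Nat.prime_two.dvd_of_dvd_pow (cN ▸ d))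
    have ov : orderOf v = 7 := orderOf_eq_prime (congrArg Subtype.val (e.injective (a₁ := ⟨v, hv⟩ ^ 7) (a₂ := 1) (by
      rw [map_pow, map_one]; funext i; rw [Pi.pow_apply, ← e7]; exact pow_card_eq_one'))) v1
    exact absurd (h.mul' ov ot c (by decide)) (by decide)
  obtain ⟨a, ha⟩ := exists_prime_orderOf_dvd_card' (G := T) 7 T7
  obtain ⟨b, hb⟩ := exists_prime_orderOf_dvd_card' (G := T) 2 T2
  have os : ∀ (i : Fin m) (c : T), orderOf (e.symm (Pi.mulSingle i c)) = orderOf c := fun i c => by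
    rw [MulEquiv.orderOf_eq]
    exact orderOf_injective (MonoidHom.mulSingle (fun _ : Fin m => T) i) (Pi.mulSingle_injective (M := fun _ : Fin m => T) i) c
  obtain rfl : m = 1 := by
    by_contra c
    have ne : (⟨0, m0⟩ : Fin m) ≠ ⟨1, by omega⟩ := by simp
    refine absurd ((h.sub N).mul' ((os ⟨0, m0⟩ a).trans ha) ((os ⟨1, by omega⟩ b).trans hb) ?_ (by decide)) (by decide)
    rw [← map_mul, ← map_mul, (Pi.mulSingle_commute (f := fun _ : Fin m => T) ne a b).eq]
  have sN : IsSimpleGroup N := (e.trans (MulEquiv.piUnique fun _ : Fin 1 => T)).isSimpleGroup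
  have ob : orderOf (e.symm (Pi.mulSingle 0 b) : G) = 2 := by rw [orderOf_coe, os, hb]
  refine ⟨N, nN, sN, fun c => absurd ((h.sub N).mul' ((os 0 a).trans ha) ((os 0 b).trans hb) (c.is_comm.comm _ _)
    (by decide)) (by decide), sev N nN n, by_contra fun c => ?_⟩
  obtain ⟨y, hy⟩ := exists_prime_orderOf_dvd_card' 7 (sev _ inferInstance c)
  exact absurd (h.mul' ((orderOf_coe y).trans hy) ob (y.2 _ (e.symm _).2).symm (by decide)) (by decide)

/-- (C): the Frattini argument for a Sylow 7-subgroup of order seven -/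
theorem index_soc (h : Sp G) {S : Subgroup G} [S.Normal] (h7 : 7 ∣ Nat.card S) (h49 : ¬ 49 ∣ Nat.card S) :
    ¬ 4 ∣ S.index ∧ ((∃ x ∈ S, ∃ s ∈ S, orderOf x = 7 ∧ s * x * s⁻¹ = x⁻¹) → ¬ 2 ∣ S.index) := by
  have : Fact (Nat.Prime 7) := ⟨by norm_num⟩
  have key : ∀ x ∈ S, orderOf x = 7 → ¬ 4 ∣ S.relIndex (normalizer (zpowers x : Set G)) *
      Nat.card (S.subgroupOf (normalizer (zpowers x : Set G))) ∧ S.index = S.relIndex (normalizer (zpowers x : Set G)) := by
    intro x hx ox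
    have cx : Nat.card (zpowers x) = 7 := by rw [Nat.card_zpowers, ox]
    have c1 : Nat.card ((zpowers x).subgroupOf S) = 7 :=
      (Nat.card_congr (subgroupOfEquivOfLe (zpowers_le.2 hx)).toEquiv).trans cx
    have ni : ¬ 7 ∣ ((zpowers x).subgroupOf S).index := fun ⟨c, hc⟩ => h49 ⟨c, by
      rw [← ((zpowers x).subgroupOf S).card_mul_index, c1, hc, ← mul_assoc]; rfl⟩
    have fr := ((IsPGroup.of_card (n := 1) (c1.trans (pow_one 7).symm)).toSylow ni).normalizer_sup_eq_top
    rw [IsPGroup.toSylow_coe, map_subgroupOf_eq_of_le (zpowers_le.2 hx)] at fr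
    refine ⟨fun c => ?_, index_dvd fr⟩
    rw [relIndex, index_mul_card] at c
    let φ := (zpowers x).normalizerMonoidHom
    have d := card_subgroup_dvd_card φ.range
    rw [IsCyclic.card_mulAut, cx, ← index_ker] at d
    have o : ¬ 2 ∣ Nat.card φ.ker := fun d => by
      obtain ⟨t, ht⟩ := exists_prime_orderOf_dvd_card' 2 d
      have : (t.1.1 : G) * x * t.1.1⁻¹ = x :=
        congrArg (fun f : MulAut (zpowers x) => (f ⟨x, mem_zpowers x⟩ : G)) (MonoidHom.mem_ker.1 t.2)
      exact absurd (h.mul' ox (by rw [orderOf_coe, orderOf_coe, ht]) (mul_inv_eq_iff_eq_mul.1 this).symm (by decide))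
        (by decide)
    rw [← φ.ker.card_mul_index] at c
    exact absurd (((Nat.Coprime.pow_left 2 ((Nat.Prime.coprime_iff_not_dvd Nat.prime_two).2 o)).dvd_of_dvd_mul_left c).trans d)
      (by decide)
  refine ⟨fun c => ?_, fun ⟨x, hx, s, hs, ox, e⟩ c => ?_⟩
  · obtain ⟨x, hx⟩ := exists_prime_orderOf_dvd_card' (G := S) 7 h7
    obtain ⟨a, b⟩ := key x x.2 ((orderOf_coe x).trans hx)
    exact a ((b ▸ c).mul_right _)
  · obtain ⟨a, b⟩ := key x hx ox
    have sn : s ∈ normalizer (zpowers x : Set G) := by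
      rw [mem_normalizer_iff_map_conj_eq, MonoidHom.map_zpowers]
      exact (congrArg zpowers e).trans zpowers_inv
    refine a (Nat.mul_dvd_mul (b ▸ c) (Dvd.dvd.trans (?_ : 2 ∣ _)
      ((S.subgroupOf (normalizer (zpowers x : Set G))).orderOf_dvd_natCard (x := ⟨s, sn⟩) hs)))
    rw [← orderOf_coe]
    by_contra o
    obtain ⟨k, hk⟩ : Odd (orderOf s) := Nat.odd_iff.2 (Nat.two_dvd_ne_zero.1 o)
    have c2 : Commute (s ^ 2) x := by
      have : s * x⁻¹ * s⁻¹ = x := by rw [conj_inv.symm, e, inv_inv]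
      calc s ^ 2 * x = s * (s * x * s⁻¹) * s⁻¹ * s ^ 2 := by simp only [sq]; group
        _ = _ := by rw [e, this]
    have c1 : Commute s x := by
      have := c2.pow_left (k + 1)
      rwa [← pow_mul, show 2 * (k + 1) = orderOf s + 1 by omega, pow_succ, pow_orderOf_eq_one, one_mul] at this
    rw [c1.eq, mul_inv_cancel_right] at e
    have : x ^ 2 = 1 := by rw [sq]; exact mul_eq_one_iff_eq_inv.2 e
    exact absurd (ox ▸ orderOf_dvd_of_pow_eq_one this) (by decide)

/-- The reduction. -/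
theorem red (h : Sp G) {u : G} (h8 : orderOf u = 8) (h7 : 7 ∣ Nat.card G) (h1 : 128 ∣ Nat.card G)
    (h2 : ¬ 256 ∣ Nat.card G) : Odd (Nat.card (pPrimeCore 7 G)) ∧ 128 ∣ Nat.card (G ⧸ pPrimeCore 7 G) ∧
      ∃ S : Subgroup (G ⧸ pPrimeCore 7 G), S.Normal ∧ IsSimpleGroup S ∧ ¬ IsMulCommutative S ∧ 7 ∣ Nat.card S ∧
        centralizer (S : Set (G ⧸ pPrimeCore 7 G)) = ⊥ ∧ (¬ 49 ∣ Nat.card S → 64 ∣ Nat.card S ∧ ¬ 4 ∣ S.index ∧
          ((∃ x ∈ S, ∃ s ∈ S, orderOf x = 7 ∧ s * x * s⁻¹ = x⁻¹) → 128 ∣ Nat.card S)) := by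
  have : Fact (Nat.Prime 7) := ⟨by norm_num⟩
  have o := odd_core h h8 h7 h1 h2
  have m := (pPrimeCore 7 G).card_mul_index
  have k1 : 128 ∣ Nat.card (G ⧸ pPrimeCore 7 G) :=
    (Nat.Coprime.pow_left 7 (Nat.coprime_two_left.2 o)).dvd_of_dvd_mul_left (m ▸ h1)
  obtain ⟨S, nS, sS, cS, S7, c0⟩ := exists_soc (h.quot _)
    ((pPrimeCore_coprime 7).symm.dvd_of_dvd_mul_left (m ▸ h7)) k1 (pPrimeCore_quotient 7)
  refine ⟨o, k1, S, nS, sS, cS, S7, c0, fun n => ?_⟩
  obtain ⟨a, b⟩ := index_soc (h.quot _) S7 n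
  rw [← S.card_mul_index] at k1
  refine ⟨?_, a, fun c => (Nat.Coprime.pow_left 7 ((Nat.Prime.coprime_iff_not_dvd Nat.prime_two).2 (b c))).dvd_of_dvd_mul_right k1⟩
  by_cases c : 2 ∣ S.index
  · obtain ⟨i, hi⟩ := c
    have oi : ¬ 2 ∣ i := fun ⟨j, hj⟩ => a ⟨j, by rw [hi, hj, ← mul_assoc]; rfl⟩
    rw [hi, mul_left_comm] at k1
    exact (Nat.Coprime.pow_left 6 ((Nat.Prime.coprime_iff_not_dvd Nat.prime_two).2 oi)).dvd_of_dvd_mul_right
      (Nat.dvd_of_mul_dvd_mul_left (k := 2) (by norm_num) k1)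
  · exact Dvd.dvd.trans (by decide)
      ((Nat.Coprime.pow_left 7 ((Nat.Prime.coprime_iff_not_dvd Nat.prime_two).2 c)).dvd_of_dvd_mul_right k1)

end CL.A10S
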