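import Cfsg.Agent.REC.A10S.Defs
import Cfsg.Agent.PERM.SpecPerm

/-! The element orders of `A₁₀`. -/

set_option autoImplicit false

namespace CL.A10S

/-- `orderOf = lcm` of the cycle type, a multiset of numbers `≥ 2` of sum at most ten with an even number of even parts (see `S3489`, `S3485`, `S3419` for the pattern) -/
theorem sp_A10 : Sp (alternatingGroup (Fin 10)) := by
  intro g
  have h : orderOf g ∈ Set.range (orderOf : alternatingGroup (Fin 10) → ℕ) := ⟨g, rfl⟩
  rw [CL.Spec.spec_A10] at h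
  simpa [W] using h

/-- explicit even permutations: 7-cycle, `8 + 2`, 9-cycle, `5 + 2 + 2` -/
theorem ex_A10 : (∃ g : alternatingGroup (Fin 10), orderOf g = 7) ∧ (∃ g : alternatingGroup (Fin 10), orderOf g = 8) ∧
    (∃ g : alternatingGroup (Fin 10), orderOf g = 9) ∧ ∃ g : alternatingGroup (Fin 10), orderOf g = 10 := by
  have h : ∀ n ∈ ({1, 2, 3, 4, 5, 6, 7, 8, 9, 10, 12, 15, 21} : Set ℕ), ∃ g : alternatingGroup (Fin 10), orderOf g = n := by
    rw [← CL.Spec.spec_A10]
    exact fun n hn => hn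
  exact ⟨h 7 (by simp), h 8 (by simp), h 9 (by simp), h 10 (by simp)⟩

end CL.A10S
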